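import Mathlib
import Cfsg.Agent.H984.SLInd
import Cfsg.Agent.SmallSimple.SelfCentPrime
set_option linter.all false

-- part: H984/SLClass
section
/-!
# Conjugacy in `SL₂` over a finite field
-/

set_option autoImplicit false
set_option linter.unusedSectionVars false

namespace Cfsg.Agent.H984.SLTwo

open Matrix Cfsg Cfsg.Agent.H984.EigCount

variable {F : Type*} [Field F]

local notation "SL" => Matrix.SpecialLinearGroup (Fin 2) F
local notation "M₂" => Matrix (Fin 2) (Fin 2) F

/-- the quadratic form `v ↦ det [v, g v]` of a `2 × 2` matrix, on pairs. -/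
def Q (g : Matrix (Fin 2) (Fin 2) F) (x y : F) : F :=
  x * (g 1 0 * x + g 1 1 * y) - y * (g 0 0 * x + g 0 1 * y)

/-- the trace -/
def tr (g : Matrix (Fin 2) (Fin 2) F) : F := g 0 0 + g 1 1

/-- `g` is not a scalar matrix -/
def NS (g : Matrix (Fin 2) (Fin 2) F) : Prop := g 0 1 ≠ 0 ∨ g 1 0 ≠ 0 ∨ g 0 0 ≠ g 1 1

theorem exists_Q_ne {g : M₂} (h : NS g) : ∃ x y : F, Q g x y ≠ 0 := by
  unfold Q
  by_cases h10 : g 1 0 = 0
  · by_cases h01 : g 0 1 = 0
    · refine ⟨1, 1, ?_⟩
      have h2 : g 0 0 ≠ g 1 1 := by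
        rcases h with h | h | h
        · exact absurd h01 h
        · exact absurd h10 h
        · exact h
      intro h3
      apply h2
      rw [h10, h01] at h3
      linear_combination -h3
    · refine ⟨0, 1, ?_⟩
      simpa using h01
  · refine ⟨1, 0, ?_⟩
    simpa using h10

/-- The companion-type element with trace `t` and parameter `e`. -/
def comp (t : F) (e : Fˣ) : SL :=
  ⟨!![0, -((e⁻¹ : Fˣ) : F); (e : F), t], by simp [Matrix.det_fin_two_of]⟩

theorem coe_comp (t : F) (e : Fˣ) :
    (comp t e : M₂) = !![0, -((e⁻¹ : Fˣ) : F); (e : F), t] := rfl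

/-- the element of `SL₂` with columns `v` and `e⁻¹ g v`. -/
def frame (g : SL) (x y : F) (e : Fˣ) (h : Q (g : M₂) x y = e) : SL :=
  ⟨!![x, ((e⁻¹ : Fˣ) : F) * ((g : M₂) 0 0 * x + (g : M₂) 0 1 * y);
      y, ((e⁻¹ : Fˣ) : F) * ((g : M₂) 1 0 * x + (g : M₂) 1 1 * y)], by
    rw [Matrix.det_fin_two_of]
    unfold Q at h
    have : ((e⁻¹ : Fˣ) : F) * (e : F) = 1 := by simp
    linear_combination ((e⁻¹ : Fˣ) : F) * h + this⟩

theorem coe_frame (g : SL) (x y : F) (e : Fˣ) (h : Q (g : M₂) x y = e) :
    (frame g x y e h : M₂) = !![x, ((e⁻¹ : Fˣ) : F) * ((g : M₂) 0 0 * x + (g : M₂) 0 1 * y);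
      y, ((e⁻¹ : Fˣ) : F) * ((g : M₂) 1 0 * x + (g : M₂) 1 1 * y)] := rfl

theorem frame_conj (g : SL) (x y : F) (e : Fˣ) (h : Q (g : M₂) x y = e) :
    g * frame g x y e h = frame g x y e h * comp (tr (g : M₂)) e := by
  have hd := det_eq g
  have he : ((e⁻¹ : Fˣ) : F) * (e : F) = 1 := by simp
  apply Matrix.SpecialLinearGroup.ext
  intro i j
  rw [Matrix.SpecialLinearGroup.coe_mul, Matrix.SpecialLinearGroup.coe_mul, coe_frame, coe_comp]
  unfold tr
  fin_cases i <;> fin_cases j <;>
    simp only [Matrix.mul_apply, Fin.sum_univ_two, Matrix.of_apply, Matrix.cons_val', Matrix.cons_val_zero,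
      Matrix.cons_val_one, Matrix.cons_val_fin_one, Fin.zero_eta, Fin.mk_one, Fin.isValue]
  · linear_combination (-((g : M₂) 0 0 * x + (g : M₂) 0 1 * y)) * he
  · linear_combination (-((e⁻¹ : Fˣ) : F) * x) * hd
  · linear_combination (-((g : M₂) 1 0 * x + (g : M₂) 1 1 * y)) * he
  · linear_combination (-((e⁻¹ : Fˣ) : F) * y) * hd

theorem isConj_comp (g : SL) (x y : F) (e : Fˣ) (h : Q (g : M₂) x y = e) :
    IsConj g (comp (tr (g : M₂)) e) := by
  rw [isConj_iff]
  refine ⟨(frame g x y e h)⁻¹, ?_⟩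
  rw [mul_assoc, inv_inv, frame_conj, ← mul_assoc, inv_mul_cancel, one_mul]

theorem isConj_of_Q {g h : SL} (ht : tr (g : M₂) = tr (h : M₂)) {x y x' y' : F} {e : F} (he : e ≠ 0)
    (hg : Q (g : M₂) x y = e) (hh : Q (h : M₂) x' y' = e) : IsConj g h := by
  have h1 := isConj_comp g x y (Units.mk0 e he) (by simpa using hg)
  have h2 := isConj_comp h x' y' (Units.mk0 e he) (by simpa using hh)
  rw [ht] at h1
  exact h1.trans h2.symm

theorem NS_comp (t : F) (e : Fˣ) : NS (comp t e : M₂) := by
  refine Or.inr (Or.inl ?_)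
  rw [coe_comp]; simp

theorem tr_comp (t : F) (e : Fˣ) : tr (comp t e : M₂) = t := by
  unfold tr; rw [coe_comp]; simp

/-- equivariance of the form -/
theorem Q_conj (g x : SL) (v w : F) :
    Q ((x * g * x⁻¹ : SL) : M₂) ((x : M₂) 0 0 * v + (x : M₂) 0 1 * w) ((x : M₂) 1 0 * v + (x : M₂) 1 1 * w) =
      Q (g : M₂) v w := by
  have hd := det_eq x
  rw [Matrix.SpecialLinearGroup.coe_mul, Matrix.SpecialLinearGroup.coe_mul,
    Matrix.SpecialLinearGroup.coe_inv, Matrix.adjugate_fin_two]
  simp only [Q, Matrix.mul_apply, Fin.sum_univ_two, Matrix.of_apply, Matrix.cons_val', Matrix.cons_val_zero,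
      Matrix.cons_val_one, Matrix.cons_val_fin_one]
  generalize (x : M₂) 0 0 = a at *
  generalize (x : M₂) 0 1 = b at *
  generalize (x : M₂) 1 0 = c at *
  generalize (x : M₂) 1 1 = d at *
  generalize (g : M₂) 0 0 = p
  generalize (g : M₂) 0 1 = q
  generalize (g : M₂) 1 0 = r
  generalize (g : M₂) 1 1 = s
  have : ∀ A : F, (a * d - b * c) ^ 2 * A = A := fun A => by rw [hd]; ring
  rw [← this (v * (r * v + s * w) - w * (p * v + q * w))]
  ring

theorem tr_conj (g x : SL) : tr ((x * g * x⁻¹ : SL) : M₂) = tr (g : M₂) := by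
  have hd := det_eq x
  rw [Matrix.SpecialLinearGroup.coe_mul, Matrix.SpecialLinearGroup.coe_mul,
    Matrix.SpecialLinearGroup.coe_inv, Matrix.adjugate_fin_two]
  simp only [tr, Matrix.mul_apply, Fin.sum_univ_two, Matrix.of_apply, Matrix.cons_val', Matrix.cons_val_zero,
      Matrix.cons_val_one, Matrix.cons_val_fin_one]
  linear_combination ((g : M₂) 0 0 + (g : M₂) 1 1) * hd

theorem tr_of_isConj {g h : SL} (hc : IsConj g h) : tr (g : M₂) = tr (h : M₂) := by
  obtain ⟨x, rfl⟩ := isConj_iff.mp hc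
  exact (tr_conj g x).symm

theorem Q_of_isConj {g h : SL} (hc : IsConj g h) (x y : F) : ∃ x' y' : F, Q (h : M₂) x' y' = Q (g : M₂) x y := by
  obtain ⟨u, rfl⟩ := isConj_iff.mp hc
  exact ⟨_, _, Q_conj g u x y⟩

theorem Q_eq_zero_of_not_NS {g : M₂} (h : ¬ NS g) (x y : F) : Q g x y = 0 := by
  unfold NS at h
  push Not at h
  unfold Q
  rw [h.1, h.2.1, h.2.2]; ring

theorem NS_of_isConj {g h : SL} (hc : IsConj g h) (hg : NS (g : M₂)) : NS (h : M₂) := by
  by_contra hn
  obtain ⟨x, y, hxy⟩ := exists_Q_ne hg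
  obtain ⟨x', y', hh⟩ := Q_of_isConj hc x y
  rw [Q_eq_zero_of_not_NS hn] at hh
  exact hxy hh.symm

/-- a norm-type form `x² + t x y + y²` represents every element if it is non-degenerate. -/
theorem exists_norm [Fintype F] (t : F) (h : ringChar F = 2 ∨ t ^ 2 ≠ 4) (m : F) :
    ∃ x y : F, x ^ 2 + t * x * y + y ^ 2 = m := by
  by_cases h2 : ringChar F = 2
  · obtain ⟨s, hs⟩ := FiniteField.isSquare_of_char_two h2 m
    exact ⟨s, 0, by rw [hs]; ring⟩
  · have ht : t ^ 2 ≠ 4 := h.resolve_left h2
    have h2' : (2 : F) ≠ 0 := Ring.two_ne_zero h2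
    have hodd : Fintype.card F % 2 = 1 := FiniteField.odd_card_of_char_ne_two h2
    set k : F := 1 - t ^ 2 / 4 with hk
    have h4 : (4 : F) ≠ 0 := by
      have : (4 : F) = 2 * 2 := by norm_num
      rw [this]; exact mul_ne_zero h2' h2'
    have hk0 : k ≠ 0 := by
      intro h0
      apply ht
      rw [hk] at h0
      field_simp at h0
      linear_combination -h0
    obtain ⟨a, b, hab⟩ := FiniteField.exists_root_sum_quadratic (R := F) (f := Polynomial.X ^ 2)
      (g := Polynomial.C k * Polynomial.X ^ 2 - Polynomial.C m) (by simp)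
      (by
        rw [Polynomial.degree_sub_eq_left_of_degree_lt]
        · rw [Polynomial.degree_C_mul_X_pow _ hk0]; rfl
        · rw [Polynomial.degree_C_mul_X_pow _ hk0]
          exact lt_of_le_of_lt Polynomial.degree_C_le (by decide)) hodd
    simp only [Polynomial.eval_pow, Polynomial.eval_X, Polynomial.eval_sub, Polynomial.eval_mul,
      Polynomial.eval_C] at hab
    refine ⟨a - t * b / 2, b, ?_⟩
    have : (a - t * b / 2) ^ 2 + t * (a - t * b / 2) * b + b ^ 2 = a ^ 2 + k * b ^ 2 := by
      rw [hk]; field_simp; ring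
    rw [this]; linear_combination hab

theorem Q_comp (t : F) (e : Fˣ) (x y : F) :
    Q (comp t e : M₂) (((e⁻¹ : Fˣ) : F) * x) y = ((e⁻¹ : Fˣ) : F) * (x ^ 2 + t * x * y + y ^ 2) := by
  unfold Q
  rw [coe_comp]
  have he : ((e⁻¹ : Fˣ) : F) * (e : F) = 1 := by simp
  simp only [Matrix.of_apply, Matrix.cons_val', Matrix.cons_val_zero,
      Matrix.cons_val_one, Matrix.cons_val_fin_one]
  linear_combination (((e⁻¹ : Fˣ) : F) * x ^ 2) * he

/-- Universality: elements of `SL₂` with non-scalar, trace `t` with `t² ≠ 4` (or characteristic two) represent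
every element. -/
theorem exists_Q_eq [Fintype F] {g : SL} (hg : NS (g : M₂)) (h : ringChar F = 2 ∨ tr (g : M₂) ^ 2 ≠ 4) (m : F) :
    ∃ x y : F, Q (g : M₂) x y = m := by
  obtain ⟨x, y, hxy⟩ := exists_Q_ne hg
  have hc := isConj_comp g x y (Units.mk0 _ hxy) rfl
  set e := Units.mk0 _ hxy with he
  obtain ⟨a, b, hab⟩ := exists_norm (tr (g : M₂)) h ((e : F) * m)
  have h1 := Q_comp (tr (g : M₂)) e a b
  rw [hab] at h1
  obtain ⟨x', y', h'⟩ := Q_of_isConj hc.symm (((e⁻¹ : Fˣ) : F) * a) b
  refine ⟨x', y', ?_⟩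
  rw [h', h1, ← mul_assoc]; simp

theorem isConj_of_tr [Fintype F] {g h : SL} (hg : NS (g : M₂)) (hh : NS (h : M₂)) (ht : tr (g : M₂) = tr (h : M₂))
    (h4 : ringChar F = 2 ∨ tr (g : M₂) ^ 2 ≠ 4) : IsConj g h := by
  obtain ⟨x, y, h1⟩ := exists_Q_eq hg h4 1
  obtain ⟨x', y', h2⟩ := exists_Q_eq hh (ht ▸ h4) 1
  exact isConj_of_Q ht one_ne_zero h1 h2

end Cfsg.Agent.H984.SLTwo
end

-- part: H984/SLCent
section
/-!
# Centralizers in `SL₂` over a finite field
-/

set_option autoImplicit false
set_option linter.unusedSectionVars false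

namespace Cfsg.Agent.H984.SLTwo

open Matrix Cfsg Cfsg.Agent.H984.EigCount

variable {F : Type*} [Field F]

local notation "SL" => Matrix.SpecialLinearGroup (Fin 2) F
local notation "M₂" => Matrix (Fin 2) (Fin 2) F

theorem Q_smul (g x : SL) (hx : Commute g x) (v w : F) :
    Q (g : M₂) ((x : M₂) 0 0 * v + (x : M₂) 0 1 * w) ((x : M₂) 1 0 * v + (x : M₂) 1 1 * w) = Q (g : M₂) v w := by
  have h := Q_conj g x v w
  rwa [show x * g * x⁻¹ = g by rw [← hx.eq, mul_assoc, mul_inv_cancel, mul_one]] at h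

theorem frame_comm (g : SL) {x y x' y' : F} {e : Fˣ} (h : Q (g : M₂) x y = e) (h' : Q (g : M₂) x' y' = e) :
    frame g x' y' e h' * (frame g x y e h)⁻¹ ∈ Subgroup.centralizer ({g} : Set SL) := by
  rw [Subgroup.mem_centralizer_singleton_iff]
  have h1 := frame_conj g x y e h
  have h2 := frame_conj g x' y' e h'
  have h3 : (frame g x y e h)⁻¹ * g = comp (tr (g : M₂)) e * (frame g x y e h)⁻¹ := by
    rw [eq_mul_inv_iff_mul_eq, mul_assoc, h1, inv_mul_cancel_left]
  rw [mul_assoc, h3, ← mul_assoc, ← h2, mul_assoc]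

theorem frame_apply (g : SL) {x y : F} {e : Fˣ} (h : Q (g : M₂) x y = e) :
    (frame g x y e h : M₂) 0 0 = x ∧ (frame g x y e h : M₂) 1 0 = y := by
  rw [coe_frame]; simp

/-- The centralizer of `g` acts simply transitively on the vectors of a given nonzero value of `Q`. -/
noncomputable def centEquiv (g : SL) {x y : F} {e : Fˣ} (h : Q (g : M₂) x y = e) :
    Subgroup.centralizer ({g} : Set SL) ≃ {p : F × F // Q (g : M₂) p.1 p.2 = e} where
  toFun k := ⟨(((k : SL) : M₂) 0 0 * x + ((k : SL) : M₂) 0 1 * y, ((k : SL) : M₂) 1 0 * x + ((k : SL) : M₂) 1 1 * y), by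
    have hk : Commute g (k : SL) := (Subgroup.mem_centralizer_singleton_iff.mp k.2).symm
    rw [Q_smul g k hk, h]⟩
  invFun p := ⟨frame g p.1.1 p.1.2 e p.2 * (frame g x y e h)⁻¹, frame_comm g h p.2⟩
  left_inv := by
    rintro ⟨k, hk⟩
    apply Subtype.ext
    have hk' : Commute g k := (Subgroup.mem_centralizer_singleton_iff.mp hk).symm
    simp only
    rw [mul_inv_eq_iff_eq_mul]
    -- frame at k v = k * frame at v
    apply Matrix.SpecialLinearGroup.ext
    intro i j
    rw [Matrix.SpecialLinearGroup.coe_mul, coe_frame, coe_frame]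
    have hc : (g : M₂) * (k : M₂) = (k : M₂) * (g : M₂) := by
      have := congrArg (fun z : SL => (z : M₂)) hk'.eq
      simpa [Matrix.SpecialLinearGroup.coe_mul] using this
    have c00 := congrFun (congrFun hc 0) 0
    have c01 := congrFun (congrFun hc 0) 1
    have c10 := congrFun (congrFun hc 1) 0
    have c11 := congrFun (congrFun hc 1) 1
    simp only [Matrix.mul_apply, Fin.sum_univ_two] at c00 c01 c10 c11
    fin_cases i <;> fin_cases j <;>
    simp only [Matrix.mul_apply, Fin.sum_univ_two, Matrix.of_apply, Matrix.cons_val', Matrix.cons_val_zero,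
      Matrix.cons_val_one, Matrix.cons_val_fin_one, Fin.zero_eta, Fin.mk_one, Fin.isValue]
    · linear_combination ((e⁻¹ : Fˣ) : F) * (x * c00 + y * c01)
    · linear_combination ((e⁻¹ : Fˣ) : F) * (x * c10 + y * c11)
  right_inv := by
    rintro ⟨⟨x', y'⟩, h'⟩
    apply Subtype.ext
    simp only
    have hf : (frame g x' y' e h' * (frame g x y e h)⁻¹) * frame g x y e h = frame g x' y' e h' := by
      rw [inv_mul_cancel_right]
    set z := frame g x' y' e h' * (frame g x y e h)⁻¹ with hz
    have h0 := congrArg (fun w : SL => (w : M₂) 0 0) hf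
    have h1 := congrArg (fun w : SL => (w : M₂) 1 0) hf
    simp only [Matrix.SpecialLinearGroup.coe_mul, Matrix.mul_apply, Fin.sum_univ_two,
      (frame_apply g h).1, (frame_apply g h).2, (frame_apply g h').1, (frame_apply g h').2] at h0 h1
    exact Prod.ext h0 h1

theorem card_cent (g : SL) {x y : F} {e : F} (he : e ≠ 0) (h : Q (g : M₂) x y = e) :
    Nat.card (Subgroup.centralizer ({g} : Set SL)) = Nat.card {p : F × F // Q (g : M₂) p.1 p.2 = e} :=
  Nat.card_congr (centEquiv g (e := Units.mk0 e he) h)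

/-- Counting the vectors where the form does not vanish, when every value is represented. -/
theorem card_cent_mul [Fintype F] [DecidableEq F] (g : SL) (hg : NS (g : M₂))
    (h : ringChar F = 2 ∨ tr (g : M₂) ^ 2 ≠ 4) :
    (Fintype.card F - 1) * Nat.card (Subgroup.centralizer ({g} : Set SL)) =
      (Finset.univ.filter (fun p : F × F => Q (g : M₂) p.1 p.2 ≠ 0)).card := by
  rw [Finset.card_eq_sum_card_fiberwise (f := fun p : F × F => Q (g : M₂) p.1 p.2)
    (t := Finset.univ.erase 0) (fun p hp => by simpa using hp)]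
  rw [Finset.sum_congr rfl (g := fun _ => Nat.card (Subgroup.centralizer ({g} : Set SL)))]
  · rw [Finset.sum_const, Finset.card_erase_of_mem (Finset.mem_univ _), Finset.card_univ, smul_eq_mul]
  · intro e he
    have he0 : e ≠ 0 := (Finset.mem_erase.mp he).1
    obtain ⟨x, y, hxy⟩ := exists_Q_eq hg h e
    rw [card_cent g he0 hxy, Nat.card_eq_fintype_card, Fintype.card_subtype, Finset.filter_filter]
    congr 1
    apply Finset.filter_congr
    intro p _
    constructor
    · rintro ⟨_, h2⟩; exact h2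
    · intro h2; exact ⟨h2 ▸ he0, h2⟩

theorem Q_eq_zero_iff_eigen (g : M₂) (x y : F) (hv : (x, y) ≠ (0, 0)) :
    Q g x y = 0 ↔ ∃ c : F, g 0 0 * x + g 0 1 * y = c * x ∧ g 1 0 * x + g 1 1 * y = c * y := by
  unfold Q
  constructor
  · intro h
    by_cases hx : x = 0
    · have hy : y ≠ 0 := fun hy => hv (by rw [hx, hy])
      subst hx
      have h01 : g 0 1 = 0 := by
        have : g 0 1 * y ^ 2 = 0 := by linear_combination -h
        exact (mul_eq_zero.mp this).resolve_right (pow_ne_zero _ hy)
      exact ⟨g 1 1, by rw [h01]; ring, by ring⟩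
    · refine ⟨(g 0 0 * x + g 0 1 * y) / x, by field_simp, ?_⟩
      field_simp
      linear_combination h
  · rintro ⟨c, h1, h2⟩
    rw [h1, h2]; ring

/-- number of zeros of `Q` for an element with no eigenvector. -/
theorem card_Q_ne_ell [Fintype F] [DecidableEq F] (g : M₂)
    (h : ∀ (c : F) (v : Fin 2 → F), v ≠ 0 → g *ᵥ v ≠ c • v) :
    (Finset.univ.filter (fun p : F × F => Q g p.1 p.2 ≠ 0)).card = Fintype.card F ^ 2 - 1 := by
  have : (Finset.univ.filter (fun p : F × F => Q g p.1 p.2 ≠ 0)) = Finset.univ.erase 0 := by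
    ext ⟨x, y⟩
    simp only [Finset.mem_filter, Finset.mem_univ, true_and, Finset.mem_erase, ne_eq, and_true]
    constructor
    · rintro h1 h2
      rw [Prod.mk_eq_zero] at h2
      apply h1
      rw [h2.1, h2.2]; unfold Q; ring
    · intro h1 h2
      obtain ⟨c, h3, h4⟩ := (Q_eq_zero_iff_eigen g x y h1).mp h2
      refine h c ![x, y] ?_ ?_
      · intro h5
        apply h1
        have h6 := congrFun h5 0
        have h7 := congrFun h5 1
        simp at h6 h7
        rw [h6, h7]; rfl
      · ext i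
        fin_cases i
        · simpa [Matrix.mulVec, dotProduct, Fin.sum_univ_two] using h3
        · simpa [Matrix.mulVec, dotProduct, Fin.sum_univ_two] using h4
  rw [this, Finset.card_erase_of_mem (Finset.mem_univ _), Finset.card_univ, Fintype.card_prod, sq]

/-- an element with no eigenvector -/
def Ell (g : M₂) : Prop := ∀ (c : F) (v : Fin 2 → F), v ≠ 0 → g *ᵥ v ≠ c • v

theorem Ell.NS {g : M₂} (h : Ell g) : NS g := by
  by_contra hn
  unfold SLTwo.NS at hn
  push Not at hn
  apply h (g 0 0) ![1, 0] (by intro h5; simpa using congrFun h5 0)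
  ext i
  fin_cases i <;> simp [Matrix.mulVec, dotProduct, Fin.sum_univ_two, hn.2.1]

theorem Ell.tr_ne {g : SL} (h : Ell (g : M₂)) : tr (g : M₂) ^ 2 ≠ 4 ∨ ringChar F = 2 := by
  by_contra hn
  push Not at hn
  obtain ⟨h4, h2⟩ := hn
  have h2' : (2 : F) ≠ 0 := Ring.two_ne_zero h2
  -- the eigenvalue t/2
  have hd := det_eq g
  unfold tr at h4
  -- find eigenvector
  have hNS := h.NS
  set a := (g : M₂) 0 0
  set b := (g : M₂) 0 1
  set c := (g : M₂) 1 0
  set d := (g : M₂) 1 1
  have key : (a - d) ^ 2 + 4 * (b * c) = 0 := by linear_combination h4 - 4 * hd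
  by_cases hb : b = 0
  · have had : a = d := by
      rw [hb] at key
      have : (a - d) ^ 2 = 0 := by linear_combination key
      exact sub_eq_zero.mp (pow_eq_zero_iff (two_ne_zero) |>.mp this)
    apply h d ![0, 1] (by intro h5; simpa using congrFun h5 1)
    ext i
    fin_cases i
    · simp only [Matrix.mulVec, dotProduct, Fin.sum_univ_two]
      simp
      exact hb
    · simp only [Matrix.mulVec, dotProduct, Fin.sum_univ_two]
      simp
      rfl
  · apply h ((a + d) / 2) ![2 * b, d - a] (by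
      intro h5
      have := congrFun h5 0
      simp at this
      rcases this with h6 | h6
      · exact h2' h6
      · exact hb h6)
    ext i
    fin_cases i
    · simp only [Matrix.mulVec, dotProduct, Fin.sum_univ_two]
      simp
      change a * (2 * b) + b * (d - a) = (a + d) / 2 * (2 * b)
      field_simp
      ring
    · simp only [Matrix.mulVec, dotProduct, Fin.sum_univ_two]
      simp
      change c * (2 * b) + d * (d - a) = (a + d) / 2 * (d - a)
      field_simp
      linear_combination key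

theorem card_cent_ell [Fintype F] [DecidableEq F] (g : SL) (h : Ell (g : M₂)) :
    Nat.card (Subgroup.centralizer ({g} : Set SL)) = Fintype.card F + 1 := by
  have h1 := card_cent_mul g h.NS h.tr_ne.symm
  rw [card_Q_ne_ell _ h] at h1
  have hq := two_le_card (F := F)
  have h2 : Fintype.card F ^ 2 - 1 = (Fintype.card F - 1) * (Fintype.card F + 1) := by
    obtain ⟨k, hk⟩ : ∃ k, Fintype.card F = k + 1 := ⟨Fintype.card F - 1, by omega⟩
    rw [hk]
    have : (k + 1) ^ 2 = k * (k + 2) + 1 := by ring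
    rw [this]; simp [add_assoc]
  rw [h2] at h1
  exact Nat.eq_of_mul_eq_mul_left (by omega) h1

end Cfsg.Agent.H984.SLTwo
end

-- part: H984/SLUnip
section
/-!
# Unipotent elements of `SL₂` over a finite field, and the number of conjugacy classes
-/

set_option autoImplicit false
set_option linter.unusedSectionVars false

namespace Cfsg.Agent.H984.SLTwo

open Matrix Cfsg Cfsg.Agent.H984.EigCount

variable {F : Type*} [Field F] [DecidableEq F]

local notation "SL" => Matrix.SpecialLinearGroup (Fin 2) F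
local notation "M₂" => Matrix (Fin 2) (Fin 2) F

theorem Q_upp_one (b x y : F) : Q (upp 1 b : M₂) x y = -b * y ^ 2 := by
  unfold Q; rw [coe_upp]
  simp only [Matrix.of_apply, Matrix.cons_val', Matrix.cons_val_zero,
      Matrix.cons_val_one, Matrix.cons_val_fin_one, Units.val_one, inv_one]
  ring

theorem tr_upp_one (b : F) : tr (upp 1 b : M₂) = 2 := by
  unfold tr; rw [coe_upp]; simp; norm_num

theorem NS_upp_one {b : F} (hb : b ≠ 0) : NS (upp 1 b : M₂) := by
  left; rw [coe_upp]; simpa using hb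

/-- A non-scalar element with trace two is conjugate to an upper unitriangular element. -/
theorem exists_conj_upp {g : SL} (hg : NS (g : M₂)) (ht : tr (g : M₂) = 2) :
    ∃ b : F, b ≠ 0 ∧ IsConj g (upp 1 b) := by
  obtain ⟨x, y, hxy⟩ := exists_Q_ne hg
  refine ⟨-Q (g : M₂) x y, neg_ne_zero.mpr hxy, ?_⟩
  refine isConj_of_Q (x := x) (y := y) (x' := 0) (y' := 1) (by rw [ht, tr_upp_one]) hxy rfl ?_
  rw [Q_upp_one]; ring

theorem isConj_upp_iff {b c : F} (hb : b ≠ 0) (hc : c ≠ 0) :
    IsConj (upp 1 b : SL) (upp 1 c) ↔ IsSquare (b * c) := by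
  constructor
  · intro h
    obtain ⟨x, y, hxy⟩ := Q_of_isConj h 0 1
    rw [Q_upp_one, Q_upp_one] at hxy
    exact ⟨c * y, by linear_combination c * hxy⟩
  · rintro ⟨r, hr⟩
    refine isConj_of_Q (x := 0) (y := r / b) (x' := 0) (y' := 1) (e := -c) (by rw [tr_upp_one, tr_upp_one])
      (neg_ne_zero.mpr hc) ?_ ?_
    · rw [Q_upp_one]; field_simp; linear_combination hr
    · rw [Q_upp_one]; ring

theorem upp_one_mul (b c : F) : (upp 1 b : SL) * upp 1 c = upp 1 (b + c) := by
  apply Matrix.SpecialLinearGroup.ext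
  intro i j
  rw [Matrix.SpecialLinearGroup.coe_mul, coe_upp, coe_upp, coe_upp]
  fin_cases i <;> fin_cases j <;> simp [Matrix.mul_apply, Fin.sum_univ_two, add_comm]

theorem upp_one_pow (b : F) (n : ℕ) : (upp 1 b : SL) ^ n = upp 1 (n * b) := by
  induction n with
  | zero =>
    simp
    apply Matrix.SpecialLinearGroup.ext
    intro i j
    rw [coe_upp]
    fin_cases i <;> fin_cases j <;> simp
  | succ n ih =>
    rw [pow_succ, ih, upp_one_mul]
    congr 1; push_cast; ring

theorem upp_one_zero : (upp 1 0 : SL) = 1 := by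
  have := upp_one_pow (F := F) 0 0
  simpa using this.symm

theorem orderOf_upp_one (p : ℕ) [hp : Fact p.Prime] [CharP F p] {b : F} (hb : b ≠ 0) :
    orderOf (upp 1 b : SL) = p := by
  apply orderOf_eq_prime
  · rw [upp_one_pow, CharP.cast_eq_zero, zero_mul, upp_one_zero]
  · intro h
    rw [← upp_one_zero] at h
    exact hb (upp_inj h).2

theorem orderOf_of_isConj {G : Type*} [Group G] {g h : G} (hc : IsConj g h) : orderOf g = orderOf h := by
  obtain ⟨x, rfl⟩ := isConj_iff.mp hc
  exact (orderOf_injective (MulAut.conj x).toMonoidHom (MulAut.conj x).injective g).symm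

/-- Elements of order `p` are non-scalar with trace two. -/
theorem of_orderOf (p : ℕ) [hp : Fact p.Prime] [CharP F p] {g : SL} (hg : orderOf g = p) :
    NS (g : M₂) ∧ tr (g : M₂) = 2 := by
  have hpow : (g : M₂) ^ p = 1 := by
    have : g ^ p = 1 := by rw [← hg]; exact pow_orderOf_eq_one g
    have := congrArg (fun z : SL => (z : M₂)) this
    simpa using this
  have hg1 : g ≠ 1 := by
    rintro rfl
    rw [orderOf_one] at hg
    exact hp.out.one_lt.ne hg
  have hdet0 : ((g : M₂) - 1).det = 0 := by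
    have : CharP M₂ p := inferInstance
    have h1 : ((g : M₂) - 1) ^ p = 0 := by
      rw [sub_pow_char_of_commute p (Commute.one_right _), hpow, one_pow, sub_self]
    have h2 : ((g : M₂) - 1).det ^ p = 0 := by rw [← Matrix.det_pow, h1, Matrix.det_zero]
    exact pow_eq_zero_iff hp.out.ne_zero |>.mp h2
  have hd := det_eq g
  have htr : tr (g : M₂) = 2 := by
    unfold tr
    rw [Matrix.det_fin_two] at hdet0
    simp only [Matrix.sub_apply, Matrix.one_apply_eq] at hdet0
    rw [Matrix.one_apply_ne (by decide), Matrix.one_apply_ne (by decide)] at hdet0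
    linear_combination -hdet0 + hd
  refine ⟨?_, htr⟩
  by_contra hn
  unfold NS at hn
  push Not at hn
  obtain ⟨h01, h10, h00⟩ := hn
  -- g = ε, 2ε = 2, ε² = 1 and ε^p = 1
  apply hg1
  have hent : (g : M₂) 0 0 = 1 := by
    have hgs : (g : M₂) = ((g : M₂) 0 0) • (1 : M₂) := by
      ext i j
      fin_cases i <;> fin_cases j <;> simp [h01, h10, h00]
    rw [hgs, smul_pow, one_pow] at hpow
    have h3 := congrFun (congrFun hpow 0) 0
    simp only [Matrix.smul_apply, Matrix.one_apply_eq, smul_eq_mul, mul_one] at h3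
    have h4 : ((g : M₂) 0 0 - 1) ^ p = 0 := by
      rw [sub_pow_char]; rw [h3, one_pow, sub_self]
    exact sub_eq_zero.mp (pow_eq_zero_iff hp.out.ne_zero |>.mp h4)
  apply Matrix.SpecialLinearGroup.ext
  intro i j
  rw [Matrix.SpecialLinearGroup.coe_one]
  fin_cases i <;> fin_cases j
  · simpa using hent
  · simpa using h01
  · simpa using h10
  · simpa [h00] using (h00 ▸ hent : (g : M₂) 1 1 = 1)

variable [Fintype F]

theorem card_SL : Nat.card SL = Fintype.card F * (Fintype.card F ^ 2 - 1) := by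
  have h := sum_col (F := F) (fun _ => (1 : ℕ))
  simp only [Finset.sum_const, Finset.card_univ, smul_eq_mul, mul_one] at h
  rw [Nat.card_eq_fintype_card, h]
  rw [Finset.filter_ne' Finset.univ (0 : Fin 2 → F), Finset.card_erase_of_mem (Finset.mem_univ _),
    Finset.card_univ, Fintype.card_fun, Fintype.card_fin]
  ring

theorem sq_eq_one_iff_side {y : F} : y ^ 2 = 1 ↔ y = 1 ∨ y = -1 := by
  constructor
  · intro h
    have : (y - 1) * (y + 1) = 0 := by linear_combination h
    rcases mul_eq_zero.mp this with h1 | h1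
    · left; linear_combination h1
    · right; linear_combination h1
  · rintro (rfl | rfl) <;> ring

/-- the order of the centralizer of a unipotent element -/
theorem card_cent_upp (b : F) (hb : b ≠ 0) :
    Nat.card (Subgroup.centralizer ({(upp 1 b : SL)} : Set SL)) =
      if ringChar F = 2 then Fintype.card F else 2 * Fintype.card F := by
  have h1 : Q ((upp 1 b : SL) : M₂) 0 1 = -b := by rw [Q_upp_one]; ring
  rw [card_cent (upp 1 b) (neg_ne_zero.mpr hb) h1]
  have h2 : ∀ p : F × F, Q ((upp 1 b : SL) : M₂) p.1 p.2 = -b ↔ p.2 = 1 ∨ p.2 = -1 := by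
    intro p
    rw [Q_upp_one, ← sq_eq_one_iff_side]
    constructor
    · intro h
      have : b * (p.2 ^ 2 - 1) = 0 := by linear_combination -h
      exact sub_eq_zero.mp ((mul_eq_zero.mp this).resolve_left hb)
    · intro h; rw [h]; ring
  rw [Nat.card_eq_fintype_card, Fintype.card_subtype]
  have h3 : (Finset.univ.filter (fun p : F × F => Q ((upp 1 b : SL) : M₂) p.1 p.2 = -b)) =
      (Finset.univ : Finset F) ×ˢ ({1, -1} : Finset F) := by
    ext ⟨x, y⟩
    simp [h2]
  rw [h3, Finset.card_product, Finset.card_univ]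
  split_ifs with h
  · have : (-1 : F) = 1 := by
      have h5 : CharP F 2 := by rw [← h]; exact ringChar.charP F
      exact CharTwo.neg_eq 1
    rw [this]; simp
  · have : (1 : F) ≠ -1 := by
      intro h6
      have h7 : (2 : F) = 0 := by linear_combination h6
      exact Ring.two_ne_zero h h7
    rw [Finset.card_pair this, mul_comm]

theorem card_class_mul (g : SL) :
    Nat.card (ConjClasses.mk g).carrier * Nat.card (Subgroup.centralizer ({g} : Set SL)) =
      Fintype.card F * (Fintype.card F ^ 2 - 1) := by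
  rw [Cfsg.Agent.SmallSimple.SelfCentPrime.card_carrier_mul_card_centralizer, card_SL]

/-- conjugate elements have the same class size -/
theorem class_eq_of_isConj {G : Type*} [Group G] {g h : G} (hc : IsConj g h) :
    ConjClasses.mk g = ConjClasses.mk h := ConjClasses.mk_eq_mk_iff_isConj.mpr hc

theorem card_class_unip_odd (h2 : ringChar F ≠ 2) {g : SL} (hg : NS (g : M₂)) (ht : tr (g : M₂) = 2) :
    Nat.card (ConjClasses.mk g).carrier = (Fintype.card F ^ 2 - 1) / 2 := by
  obtain ⟨b, hb, hc⟩ := exists_conj_upp hg ht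
  rw [class_eq_of_isConj hc]
  have h1 := card_class_mul (upp 1 b : SL)
  rw [card_cent_upp b hb, if_neg h2] at h1
  have hq : 0 < Fintype.card F := Fintype.card_pos
  have h3 : Nat.card (ConjClasses.mk (upp 1 b : SL)).carrier * 2 = Fintype.card F ^ 2 - 1 := by
    apply Nat.eq_of_mul_eq_mul_left hq
    rw [← h1]; ring
  omega

theorem card_class_unip_even (h2 : ringChar F = 2) {g : SL} (hg : NS (g : M₂)) (ht : tr (g : M₂) = 2) :
    Nat.card (ConjClasses.mk g).carrier = Fintype.card F ^ 2 - 1 := by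
  obtain ⟨b, hb, hc⟩ := exists_conj_upp hg ht
  rw [class_eq_of_isConj hc]
  have h1 := card_class_mul (upp 1 b : SL)
  rw [card_cent_upp b hb, if_pos h2] at h1
  have hq : 0 < Fintype.card F := Fintype.card_pos
  apply Nat.eq_of_mul_eq_mul_left hq
  rw [← h1]; ring

/-- In a finite field the product of two non-squares is a square. -/
theorem isSquare_mul_of_not {a b : F} (ha : ¬ IsSquare a) (hb : ¬ IsSquare b) : IsSquare (a * b) := by
  have ha0 : a ≠ 0 := by rintro rfl; exact ha ⟨0, by simp⟩
  have hb0 : b ≠ 0 := by rintro rfl; exact hb ⟨0, by simp⟩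
  rw [← quadraticChar_one_iff_isSquare (mul_ne_zero ha0 hb0), map_mul,
    quadraticChar_neg_one_iff_not_isSquare.mpr ha, quadraticChar_neg_one_iff_not_isSquare.mpr hb]
  norm_num

theorem eq_upp_of {g : SL} (h00 : (g : M₂) 0 0 = 1) (h11 : (g : M₂) 1 1 = 1) (h10 : (g : M₂) 1 0 = 0) :
    g = upp 1 ((g : M₂) 0 1) := by
  apply Matrix.SpecialLinearGroup.ext
  intro i j
  rw [coe_upp]
  fin_cases i <;> fin_cases j <;> simp [h00, h11, h10]

end Cfsg.Agent.H984.SLTwo
end
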