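import Mathlib
import Cfsg.Agent.H984.SLCount
import Cfsg.Agent.H984.SLInner
import Cfsg.Agent.H670.RankOneJac
import Cfsg.Agent.CharDeep.DegreeBound
import Cfsg.Agent.CharactersDeep.IndFun
import Cfsg.Agent.Characters.Linear
set_option linter.all false

-- part: H984/SLTorus
section
/-!
# The non-split torus of `SL₂` over a finite field
-/

set_option autoImplicit false
set_option linter.unusedSectionVars false

namespace Cfsg.Agent.H984.SLTwo

open Matrix Cfsg Cfsg.Agent.H984.EigCount

variable {F : Type*} [Field F] [DecidableEq F]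

local notation "SL" => Matrix.SpecialLinearGroup (Fin 2) F
local notation "M₂" => Matrix (Fin 2) (Fin 2) F

theorem Ell.e10 {g : M₂} (h : Ell g) : g 1 0 ≠ 0 := by
  intro h0
  apply h (g 0 0) ![1, 0] (by intro h5; simpa using congrFun h5 0)
  ext i
  fin_cases i <;> simp [Matrix.mulVec, dotProduct, Fin.sum_univ_two, h0]

/-- no eigenvalue -/
theorem Ell.no_root {g : SL} (h : Ell (g : M₂)) (a : F) : a ^ 2 - tr (g : M₂) * a + 1 ≠ 0 := by
  intro h0
  have hdet : ((g : M₂) - a • (1 : M₂)).det = 0 := by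
    rw [Matrix.det_fin_two]
    simp only [Matrix.sub_apply, Matrix.smul_apply, Matrix.one_apply_eq, smul_eq_mul, mul_one]
    rw [Matrix.one_apply_ne (by decide), Matrix.one_apply_ne (by decide)]
    have := det_eq g
    unfold tr at h0
    linear_combination h0 + this
  obtain ⟨v, hv, hv0⟩ := Matrix.exists_mulVec_eq_zero_iff.mpr hdet
  refine h a v hv ?_
  rw [Matrix.sub_mulVec, Matrix.smul_mulVec, Matrix.one_mulVec, sub_eq_zero] at hv0
  exact hv0

theorem ell_of_no_root {g : SL} (h : ∀ a : F, a ^ 2 - tr (g : M₂) * a + 1 ≠ 0) : Ell (g : M₂) := by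
  intro a v hv hav
  apply h a
  have hdet : ((g : M₂) - a • (1 : M₂)).det = 0 := by
    apply Matrix.exists_mulVec_eq_zero_iff.mp
    refine ⟨v, hv, ?_⟩
    rw [Matrix.sub_mulVec, Matrix.smul_mulVec, Matrix.one_mulVec, hav, sub_self]
  rw [Matrix.det_fin_two] at hdet
  simp only [Matrix.sub_apply, Matrix.smul_apply, Matrix.one_apply_eq, smul_eq_mul, mul_one] at hdet
  rw [Matrix.one_apply_ne (by decide), Matrix.one_apply_ne (by decide)] at hdet
  have := det_eq g
  unfold tr
  linear_combination hdet - this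

theorem ell_iff {g : SL} : Ell (g : M₂) ↔ ∀ a : F, a ^ 2 - tr (g : M₂) * a + 1 ≠ 0 :=
  ⟨fun h => h.no_root, ell_of_no_root⟩

theorem Ell.of_isConj {g h : SL} (hc : IsConj g h) (hg : Ell (g : M₂)) : Ell (h : M₂) := by
  rw [ell_iff] at hg ⊢
  rwa [← tr_of_isConj hc]

/-- coordinate along `g` of an element commuting with `g` -/
def cy (g k : M₂) : F := k 1 0 / g 1 0
/-- coordinate along `1` of an element commuting with `g` -/
def cx (g k : M₂) : F := k 0 0 - cy g k * g 0 0

theorem entries_of_commute {g k : SL} (hg : Ell (g : M₂)) (hk : Commute g k) :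
    (k : M₂) 1 0 = cy (g : M₂) k * (g : M₂) 1 0 ∧
    (k : M₂) 0 0 = cx (g : M₂) k + cy (g : M₂) k * (g : M₂) 0 0 ∧
    (k : M₂) 0 1 = cy (g : M₂) k * (g : M₂) 0 1 ∧
    (k : M₂) 1 1 = cx (g : M₂) k + cy (g : M₂) k * (g : M₂) 1 1 := by
  have h10 := hg.e10
  have hc : (g : M₂) * (k : M₂) = (k : M₂) * (g : M₂) := by
    have := congrArg (fun z : SL => (z : M₂)) hk.eq
    simpa [Matrix.SpecialLinearGroup.coe_mul] using this
  have c00 := congrFun (congrFun hc 0) 0
  have c10 := congrFun (congrFun hc 1) 0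
  simp only [Matrix.mul_apply, Fin.sum_univ_two] at c00 c10
  unfold cx cy
  refine ⟨?_, ?_, ?_, ?_⟩
  · field_simp
  · ring
  · field_simp
    linear_combination -c00
  · field_simp
    linear_combination -c10

theorem tr_inv (k : SL) : tr ((k⁻¹ : SL) : M₂) = tr (k : M₂) := by
  rw [Matrix.SpecialLinearGroup.coe_inv, Matrix.adjugate_fin_two]
  unfold tr
  simp [add_comm]

theorem NS_inv {k : SL} (hk : NS (k : M₂)) : NS ((k⁻¹ : SL) : M₂) := by
  rw [Matrix.SpecialLinearGroup.coe_inv, Matrix.adjugate_fin_two]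
  unfold NS at *
  simp only [Matrix.of_apply, Matrix.cons_val', Matrix.cons_val_zero,
      Matrix.cons_val_one, Matrix.cons_val_fin_one]
  rcases hk with h | h | h
  · exact Or.inl (neg_ne_zero.mpr h)
  · exact Or.inr (Or.inl (neg_ne_zero.mpr h))
  · exact Or.inr (Or.inr h.symm)

theorem exists_lam (t : F) : ∃ l : AlgebraicClosure F, l ^ 2 - (algebraMap F (AlgebraicClosure F) t) * l + 1 = 0 := by
  have := IsAlgClosed.exists_root (k := AlgebraicClosure F)
    (Polynomial.X ^ 2 - Polynomial.C (algebraMap F (AlgebraicClosure F) t) * Polynomial.X + 1) (by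
      have : (Polynomial.X ^ 2 - Polynomial.C (algebraMap F (AlgebraicClosure F) t) * Polynomial.X + 1 :
        Polynomial (AlgebraicClosure F)) = Polynomial.X ^ 2 + (Polynomial.C (-(algebraMap F (AlgebraicClosure F) t)) * Polynomial.X + Polynomial.C 1) := by
        simp; ring
      rw [this, Polynomial.degree_add_eq_left_of_degree_lt]
      · simp
      · rw [Polynomial.degree_X_pow]
        exact lt_of_le_of_lt (Polynomial.degree_linear_le) (by decide))
  obtain ⟨l, hl⟩ := this
  refine ⟨l, ?_⟩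
  simpa [Polynomial.IsRoot] using hl

/-- a root of the characteristic polynomial -/
noncomputable def lam (g : M₂) : AlgebraicClosure F := (exists_lam (tr g)).choose

theorem lam_spec (g : M₂) : lam g ^ 2 - (algebraMap F (AlgebraicClosure F) (tr g)) * lam g + 1 = 0 :=
  (exists_lam (tr g)).choose_spec

/-- the eigenvalue homomorphism of the centralizer of an element with no eigenvector. -/
noncomputable def mu (g : SL) (hg : Ell (g : M₂)) :
    Subgroup.centralizer ({g} : Set SL) →* AlgebraicClosure F where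
  toFun k := algebraMap F _ (cx (g : M₂) (k : SL)) + algebraMap F _ (cy (g : M₂) (k : SL)) * lam (g : M₂)
  map_one' := by
    have h1 : cy (g : M₂) ((1 : SL) : M₂) = 0 := by simp [cy]
    have h2 : cx (g : M₂) ((1 : SL) : M₂) = 1 := by simp [cx, cy]
    simp only [OneMemClass.coe_one]
    rw [h1, h2]; simp
  map_mul' := by
    rintro ⟨k, hk⟩ ⟨l, hl⟩
    have hk' : Commute g k := (Subgroup.mem_centralizer_singleton_iff.mp hk).symm
    have hl' : Commute g l := (Subgroup.mem_centralizer_singleton_iff.mp hl).symm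
    obtain ⟨k1, k2, k3, k4⟩ := entries_of_commute hg hk'
    obtain ⟨l1, l2, l3, l4⟩ := entries_of_commute hg hl'
    have h10 := hg.e10
    have hd := det_eq g
    have hy : cy (g : M₂) ((k * l : SL) : M₂) = cy (g : M₂) k * cx (g : M₂) l + cx (g : M₂) k * cy (g : M₂) l +
        cy (g : M₂) k * cy (g : M₂) l * tr (g : M₂) := by
      have : ((k * l : SL) : M₂) 1 0 = (k : M₂) 1 0 * (l : M₂) 0 0 + (k : M₂) 1 1 * (l : M₂) 1 0 := by
        rw [Matrix.SpecialLinearGroup.coe_mul, Matrix.mul_apply, Fin.sum_univ_two]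
      rw [show cy (g : M₂) ((k * l : SL) : M₂) = ((k * l : SL) : M₂) 1 0 / (g : M₂) 1 0 from rfl, this,
        div_eq_iff h10, k1, l1, k4, l2]
      unfold tr; ring
    have hx : cx (g : M₂) ((k * l : SL) : M₂) = cx (g : M₂) k * cx (g : M₂) l - cy (g : M₂) k * cy (g : M₂) l := by
      have : ((k * l : SL) : M₂) 0 0 = (k : M₂) 0 0 * (l : M₂) 0 0 + (k : M₂) 0 1 * (l : M₂) 1 0 := by
        rw [Matrix.SpecialLinearGroup.coe_mul, Matrix.mul_apply, Fin.sum_univ_two]
      rw [show cx (g : M₂) ((k * l : SL) : M₂) = ((k * l : SL) : M₂) 0 0 - cy (g : M₂) ((k * l : SL) : M₂) * (g : M₂) 0 0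
        from rfl, this, hy, k2, l2, k3, l1]
      unfold tr; linear_combination (-(cy (g : M₂) k * cy (g : M₂) l)) * hd
    simp only [Subgroup.coe_mul]
    rw [hx, hy]
    have hl2 := lam_spec (g : M₂)
    simp only [map_add, map_mul, map_sub]
    linear_combination (-(algebraMap F (AlgebraicClosure F) (cy (g : M₂) k)) * (algebraMap F (AlgebraicClosure F) (cy (g : M₂) l))) * hl2

theorem mu_apply (g : SL) (hg : Ell (g : M₂)) (k : Subgroup.centralizer ({g} : Set SL)) :
    mu g hg k = algebraMap F _ (cx (g : M₂) (k : SL)) + algebraMap F _ (cy (g : M₂) (k : SL)) * lam (g : M₂) := rfl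

theorem lam_ne (g : SL) (hg : Ell (g : M₂)) (a : F) : lam (g : M₂) ≠ algebraMap F _ a := by
  intro h
  have h1 := lam_spec (g : M₂)
  rw [h] at h1
  apply hg.no_root a
  apply (algebraMap F (AlgebraicClosure F)).injective
  simp only [map_add, map_sub, map_mul, map_pow, map_one, map_zero]
  exact h1

theorem mu_injective (g : SL) (hg : Ell (g : M₂)) : Function.Injective (mu g hg) := by
  rintro ⟨k, hk⟩ ⟨l, hl⟩ h
  have hk' : Commute g k := (Subgroup.mem_centralizer_singleton_iff.mp hk).symm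
  have hl' : Commute g l := (Subgroup.mem_centralizer_singleton_iff.mp hl).symm
  obtain ⟨k1, k2, k3, k4⟩ := entries_of_commute hg hk'
  obtain ⟨l1, l2, l3, l4⟩ := entries_of_commute hg hl'
  rw [mu_apply, mu_apply] at h
  simp only at h
  have hyy : cy (g : M₂) (k : M₂) = cy (g : M₂) (l : M₂) := by
    by_contra hne
    apply lam_ne g hg ((cx (g : M₂) (l : M₂) - cx (g : M₂) (k : M₂)) / (cy (g : M₂) (k : M₂) - cy (g : M₂) (l : M₂)))
    have hne' : algebraMap F (AlgebraicClosure F) (cy (g : M₂) (k : M₂)) - algebraMap F (AlgebraicClosure F) (cy (g : M₂) (l : M₂)) ≠ 0 := by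
      rw [← map_sub]
      exact (map_ne_zero _).mpr (sub_ne_zero.mpr hne)
    rw [map_div₀, map_sub, map_sub, eq_div_iff hne']
    linear_combination h
  have hxx : cx (g : M₂) (k : M₂) = cx (g : M₂) (l : M₂) := by
    rw [hyy] at h
    exact (algebraMap F (AlgebraicClosure F)).injective (add_right_cancel h)
  apply Subtype.ext
  apply Matrix.SpecialLinearGroup.ext
  intro i j
  fin_cases i <;> fin_cases j
  · exact k2.trans (by rw [hxx, hyy]; exact l2.symm)
  · exact k3.trans (by rw [hyy]; exact l3.symm)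
  · exact k1.trans (by rw [hyy]; exact l1.symm)
  · exact k4.trans (by rw [hxx, hyy]; exact l4.symm)

theorem isCyclic_cent [Fintype F] (g : SL) (hg : Ell (g : M₂)) :
    IsCyclic (Subgroup.centralizer ({g} : Set SL)) :=
  isCyclic_of_injective_ringHom (mu g hg) (mu_injective g hg)

theorem mu_add_inv (g : SL) (hg : Ell (g : M₂)) (k : Subgroup.centralizer ({g} : Set SL)) :
    mu g hg k + mu g hg k⁻¹ = algebraMap F _ (tr ((k : SL) : M₂)) := by
  have h10 := hg.e10
  rw [mu_apply, mu_apply]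
  have e : ((k⁻¹ : Subgroup.centralizer ({g} : Set SL)) : SL) = (k : SL)⁻¹ := rfl
  rw [e]
  have h1 : cy (g : M₂) (((k : SL)⁻¹ : SL) : M₂) = - cy (g : M₂) (k : SL) := by
    unfold cy
    rw [Matrix.SpecialLinearGroup.coe_inv, Matrix.adjugate_fin_two]
    simp [neg_div]
  have h2 : cx (g : M₂) (((k : SL)⁻¹ : SL) : M₂) = ((k : SL) : M₂) 1 1 + cy (g : M₂) (k : SL) * (g : M₂) 0 0 := by
    unfold cx
    rw [h1, Matrix.SpecialLinearGroup.coe_inv, Matrix.adjugate_fin_two]
    simp
  rw [h1, h2]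
  unfold cx tr
  simp only [map_add, map_sub, map_mul, map_neg]
  ring

/-- In the centralizer, an element is determined up to inversion by its trace. -/
theorem eq_or_inv_of_tr (g : SL) (hg : Ell (g : M₂)) {k l : SL} (hk : k ∈ Subgroup.centralizer ({g} : Set SL))
    (hl : l ∈ Subgroup.centralizer ({g} : Set SL)) (h : tr (k : M₂) = tr (l : M₂)) : k = l ∨ k = l⁻¹ := by
  have h1 := mu_add_inv g hg ⟨k, hk⟩
  have h2 := mu_add_inv g hg ⟨l, hl⟩
  simp only at h1 h2
  rw [h, ← h2] at h1
  have hk1 : mu g hg ⟨k, hk⟩ * mu g hg (⟨k, hk⟩⁻¹) = 1 := by rw [← map_mul, mul_inv_cancel, map_one]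
  have hl1 : mu g hg ⟨l, hl⟩ * mu g hg (⟨l, hl⟩⁻¹) = 1 := by rw [← map_mul, mul_inv_cancel, map_one]
  have : (mu g hg ⟨k, hk⟩ - mu g hg ⟨l, hl⟩) * (mu g hg ⟨k, hk⟩ - mu g hg (⟨l, hl⟩⁻¹)) = 0 := by
    linear_combination (mu g hg ⟨k, hk⟩) * h1 - hk1 + hl1
  rcases mul_eq_zero.mp this with h3 | h3
  · left
    exact congrArg Subtype.val (mu_injective g hg (sub_eq_zero.mp h3))
  · right
    exact congrArg Subtype.val (mu_injective g hg (sub_eq_zero.mp h3))

/-- Non-scalar elements of the centralizer have no eigenvector. -/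
theorem ell_of_mem_cent {g k : SL} (hg : Ell (g : M₂)) (hk : k ∈ Subgroup.centralizer ({g} : Set SL))
    (hNS : NS (k : M₂)) : Ell (k : M₂) := by
  have hk' : Commute g k := (Subgroup.mem_centralizer_singleton_iff.mp hk).symm
  obtain ⟨k1, k2, k3, k4⟩ := entries_of_commute hg hk'
  have hy : cy (g : M₂) (k : M₂) ≠ 0 := by
    intro h0
    rw [h0] at k1 k2 k3 k4
    unfold NS at hNS
    rcases hNS with h | h | h
    · exact h (by rw [k3]; ring)
    · exact h (by rw [k1]; ring)
    · exact h (by rw [k2, k4]; ring)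
  intro a v hv hav
  refine hg ((a - cx (g : M₂) (k : M₂)) / cy (g : M₂) (k : M₂)) v hv ?_
  have h0 := congrFun hav 0
  have h1 := congrFun hav 1
  simp only [Matrix.mulVec, dotProduct, Fin.sum_univ_two, Pi.smul_apply, smul_eq_mul] at h0 h1
  rw [k2, k3] at h0
  rw [k1, k4] at h1
  ext i
  fin_cases i
  · simp only [Matrix.mulVec, dotProduct, Fin.sum_univ_two, Pi.smul_apply, smul_eq_mul, Fin.zero_eta]
    field_simp
    linear_combination h0
  · simp only [Matrix.mulVec, dotProduct, Fin.sum_univ_two, Pi.smul_apply, smul_eq_mul, Fin.mk_one]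
    field_simp
    linear_combination h1

/-- The centralizer of a non-scalar element of the torus is the torus. -/
theorem cent_eq [Fintype F] {g k : SL} (hg : Ell (g : M₂)) (hk : k ∈ Subgroup.centralizer ({g} : Set SL))
    (hNS : NS (k : M₂)) : Subgroup.centralizer ({k} : Set SL) = Subgroup.centralizer ({g} : Set SL) := by
  symm
  have hcyc := isCyclic_cent g hg
  have hle : Subgroup.centralizer ({g} : Set SL) ≤ Subgroup.centralizer ({k} : Set SL) := by
    intro l hl
    rw [Subgroup.mem_centralizer_singleton_iff]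
    have := (IsCyclic.isMulCommutative (α := Subgroup.centralizer ({g} : Set SL))).is_comm.comm ⟨l, hl⟩ ⟨k, hk⟩
    exact congrArg Subtype.val this
  apply Subgroup.eq_of_le_of_card_ge hle
  rw [card_cent_ell g hg, card_cent_ell k (ell_of_mem_cent hg hk hNS)]

/-- There are elements with no eigenvector. -/
theorem exists_ell [Fintype F] : ∃ g : SL, Ell (g : M₂) := by
  have : ¬ Function.Surjective (fun a : Fˣ => (a : F) + ((a⁻¹ : Fˣ) : F)) := by
    intro h
    have := Fintype.card_le_of_surjective _ h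
    rw [Fintype.card_units] at this
    have := Fintype.card_pos (α := F)
    omega
  unfold Function.Surjective at this
  push Not at this
  obtain ⟨t, ht⟩ := this
  refine ⟨comp t 1, ?_⟩
  rw [ell_iff, tr_comp]
  intro a ha
  have ha0 : a ≠ 0 := by rintro rfl; simp at ha
  apply ht (Units.mk0 a ha0)
  simp only [Units.val_mk0, Units.val_inv_eq_inv_val]
  field_simp
  linear_combination ha

end Cfsg.Agent.H984.SLTwo
end

-- part: H984/SLDisc
section
/-!
# Functions induced from the non-split torus of `SL₂` over a finite field, and the discrete series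
-/

set_option autoImplicit false
set_option linter.unusedSectionVars false

namespace Cfsg.Agent.H984.SLTwo

open Matrix Cfsg Cfsg.Agent.H984.EigCount
open scoped ComplexConjugate

variable {F : Type*} [Field F] [DecidableEq F] [Fintype F]

local notation "SL" => Matrix.SpecialLinearGroup (Fin 2) F
local notation "M₂" => Matrix (Fin 2) (Fin 2) F

/-- number of solutions of `x⁻¹ c x = d`. -/
theorem card_filter_conj {G : Type*} [Group G] [Fintype G] [DecidableEq G] {c d : G} (h : IsConj c d) :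
    (Finset.univ.filter (fun x : G => x⁻¹ * c * x = d)).card = Nat.card (Subgroup.centralizer ({c} : Set G)) := by
  classical
  obtain ⟨w, hw⟩ := isConj_iff.mp h
  rw [Nat.card_eq_fintype_card, ← Finset.card_univ]
  symm
  refine Finset.card_bij (fun k _ => (k : G) * w⁻¹) ?_ ?_ ?_
  · rintro ⟨k, hk⟩ _
    rw [Subgroup.mem_centralizer_singleton_iff] at hk
    simp only [Finset.mem_filter, Finset.mem_univ, true_and]
    rw [← hw, _root_.mul_inv_rev, inv_inv]
    have : k⁻¹ * c * k = c := by rw [mul_assoc, ← hk, inv_mul_cancel_left]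
    calc w * k⁻¹ * c * (k * w⁻¹) = w * (k⁻¹ * c * k) * w⁻¹ := by group
      _ = w * c * w⁻¹ := by rw [this]
  · rintro ⟨k, hk⟩ _ ⟨l, hl⟩ _ h
    exact Subtype.ext (mul_right_cancel h)
  · intro x hx
    simp only [Finset.mem_filter, Finset.mem_univ, true_and] at hx
    refine ⟨⟨x * w, ?_⟩, Finset.mem_univ _, by simp⟩
    rw [Subgroup.mem_centralizer_singleton_iff]
    rw [← hw] at hx
    have : c * x = x * (w * c * w⁻¹) := by rw [← hx]; group
    calc x * w * c = x * (w * c * w⁻¹) * w := by group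
      _ = c * (x * w) := by rw [← this]; group

variable {g : Matrix.SpecialLinearGroup (Fin 2) F}

/-- The function induced from a character of the non-split torus. -/
noncomputable def I (θ : Subgroup.centralizer ({g} : Set SL) →* ℂˣ) : SL → ℂ :=
  indFun (Subgroup.centralizer ({g} : Set SL)) (fun c => (θ c : ℂ))

theorem mem_cent_of_not_NS {z : SL} (hz : ¬ NS (z : M₂)) : z ∈ Subgroup.centralizer ({g} : Set SL) := by
  rw [Subgroup.mem_centralizer_singleton_iff]
  unfold NS at hz
  push Not at hz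
  obtain ⟨h01, h10, h00⟩ := hz
  apply Matrix.SpecialLinearGroup.ext
  intro i j
  rw [Matrix.SpecialLinearGroup.coe_mul, Matrix.SpecialLinearGroup.coe_mul]
  fin_cases i <;> fin_cases j <;> simp [Matrix.mul_apply, Fin.sum_univ_two, h01, h10, h00, mul_comm]

theorem comm_of_not_NS {z : SL} (hz : ¬ NS (z : M₂)) (x : SL) : x⁻¹ * z * x = z := by
  have := mem_cent_of_not_NS (g := x) hz
  rw [Subgroup.mem_centralizer_singleton_iff] at this
  rw [mul_assoc, this, inv_mul_cancel_left]

theorem card_SL_complex : (Nat.card SL : ℂ) = (Fintype.card F : ℂ) * (((Fintype.card F : ℂ) - 1) * ((Fintype.card F : ℂ) + 1)) := by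
  rw [card_SL]
  have hq := two_le_card (F := F)
  rw [Nat.cast_mul, Nat.cast_sub (Nat.one_le_pow _ _ (by omega))]
  push_cast; ring

theorem card_add_one_ne : ((Fintype.card F : ℂ) + 1) ≠ 0 := by
  exact_mod_cast Nat.succ_ne_zero (Fintype.card F)

theorem card_ne : (Fintype.card F : ℂ) ≠ 0 := by
  exact_mod_cast (Fintype.card_pos (α := F)).ne'

theorem I_scalar (hg : Ell (g : M₂)) (θ : Subgroup.centralizer ({g} : Set SL) →* ℂˣ) {z : SL} (hz : ¬ NS (z : M₂)) :
    I θ z = (Fintype.card F : ℂ) * ((Fintype.card F : ℂ) - 1) * (θ ⟨z, mem_cent_of_not_NS hz⟩ : ℂ) := by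
  unfold I
  rw [Cfsg.Agent.Characters.Core.indFun_apply, card_cent_ell g hg]
  rw [Finset.sum_congr rfl (g := fun _ => (θ ⟨z, mem_cent_of_not_NS hz⟩ : ℂ)) (fun x _ => by
    rw [comm_of_not_NS hz x, Cfsg.Agent.Characters.Core.extendByZero_of_mem _ _ (mem_cent_of_not_NS hz)])]
  rw [Finset.sum_const, Finset.card_univ, nsmul_eq_mul, show (Fintype.card SL : ℂ) = (Nat.card SL : ℂ) by rw [Nat.card_eq_fintype_card], card_SL_complex]
  have h1 := card_add_one_ne (F := F)
  push_cast
  field_simp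

theorem ne_inv_of_NS (hg : Ell (g : M₂)) {c : SL} (hc : c ∈ Subgroup.centralizer ({g} : Set SL)) (hNS : NS (c : M₂)) :
    c ≠ c⁻¹ := by
  intro h
  have hh := congrArg (fun z : SL => (z : M₂)) h
  simp only [Matrix.SpecialLinearGroup.coe_inv, Matrix.adjugate_fin_two] at hh
  have e := (ell_of_mem_cent hg hc hNS)
  have h00 := congrFun (congrFun hh 0) 0
  have h01 := congrFun (congrFun hh 0) 1
  have h10 := congrFun (congrFun hh 1) 0
  simp at h00 h01 h10
  have e10 := e.e10
  have h2 : (2 : F) = 0 := by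
    have : 2 * (c : M₂) 1 0 = 0 := by linear_combination h10
    exact (mul_eq_zero.mp this).resolve_right e10
  -- characteristic two, trace zero: every element is a square
  have hchar : ringChar F = 2 := by
    by_contra hne
    exact Ring.two_ne_zero hne h2
  have htr : tr (c : M₂) = 0 := by
    unfold tr; rw [← h00]; linear_combination ((c : M₂) 0 0) * h2
  obtain ⟨s, hs⟩ := FiniteField.isSquare_of_char_two hchar (1 : F)
  apply e.no_root s
  rw [htr]
  linear_combination -hs + h2

theorem isConj_inv_of_ell {c : SL} (hc : Ell (c : M₂)) : IsConj c c⁻¹ :=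
  isConj_of_tr hc.NS (NS_inv hc.NS) (tr_inv c).symm hc.tr_ne.symm

theorem I_ell (hg : Ell (g : M₂)) (θ : Subgroup.centralizer ({g} : Set SL) →* ℂˣ) {c : SL}
    (hc : c ∈ Subgroup.centralizer ({g} : Set SL)) (hNS : NS (c : M₂)) :
    I θ c = (θ ⟨c, hc⟩ : ℂ) + (((θ ⟨c, hc⟩)⁻¹ : ℂˣ) : ℂ) := by
  classical
  unfold I
  have hci : c⁻¹ ∈ Subgroup.centralizer ({g} : Set SL) := inv_mem hc
  rw [Cfsg.Agent.Characters.Core.indFun_apply, card_cent_ell g hg]
  have hne := ne_inv_of_NS hg hc hNS
  have key : ∀ x : SL, extendByZero (Subgroup.centralizer ({g} : Set SL)) (fun c => (θ c : ℂ)) (x⁻¹ * c * x) =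
      (if x⁻¹ * c * x = c then (θ ⟨c, hc⟩ : ℂ) else 0) +
      (if x⁻¹ * c * x = c⁻¹ then (((θ ⟨c, hc⟩)⁻¹ : ℂˣ) : ℂ) else 0) := by
    intro x
    by_cases hx : x⁻¹ * c * x ∈ Subgroup.centralizer ({g} : Set SL)
    · have htr : tr ((x⁻¹ * c * x : SL) : M₂) = tr (c : M₂) := by
        have := tr_conj c x⁻¹
        rwa [inv_inv] at this
      rcases eq_or_inv_of_tr g hg hx hc htr with h | h
      · have h' : x⁻¹ * c * x ≠ c⁻¹ := by rw [h]; exact hne
        rw [if_pos h, if_neg h', add_zero, h, Cfsg.Agent.Characters.Core.extendByZero_of_mem _ _ hc]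
      · have h' : x⁻¹ * c * x ≠ c := by rw [h]; exact hne.symm
        rw [if_neg h', if_pos h, zero_add, h, Cfsg.Agent.Characters.Core.extendByZero_of_mem _ _ hci]
        rw [← map_inv]; rfl
    · rw [Cfsg.Agent.Characters.Core.extendByZero_of_notMem _ _ hx]
      rw [if_neg (fun h => hx (by rw [h]; exact hc)), if_neg (fun h => hx (by rw [h]; exact hci)), add_zero]
  simp_rw [key]
  rw [Finset.sum_add_distrib, ← Finset.sum_filter, ← Finset.sum_filter, Finset.sum_const, Finset.sum_const,
    card_filter_conj (IsConj.refl c), card_filter_conj (isConj_inv_of_ell (ell_of_mem_cent hg hc hNS)),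
    cent_eq hg hc hNS, card_cent_ell g hg, ← smul_add, nsmul_eq_mul]
  have h1 := card_add_one_ne (F := F)
  push_cast
  field_simp

theorem I_not_ell (hg : Ell (g : M₂)) (θ : Subgroup.centralizer ({g} : Set SL) →* ℂˣ) {c : SL}
    (hc : ¬ Ell (c : M₂)) (hNS : NS (c : M₂)) : I θ c = 0 := by
  unfold I
  rw [Cfsg.Agent.Characters.Core.indFun_apply]
  rw [Finset.sum_eq_zero, mul_zero]
  intro x _
  apply Cfsg.Agent.Characters.Core.extendByZero_of_notMem
  intro hx
  have hcj : IsConj (x⁻¹ * c * x) c := isConj_iff.mpr ⟨x, by group⟩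
  have h1 := ell_of_mem_cent hg hx (NS_of_isConj hcj.symm hNS)
  exact hc (h1.of_isConj hcj)

theorem isClassFunction_I (θ : Subgroup.centralizer ({g} : Set SL) →* ℂˣ) : IsClassFunction SL (I θ) := by
  intro a h
  unfold I
  rw [Cfsg.Agent.Characters.Core.indFun_apply, Cfsg.Agent.Characters.Core.indFun_apply]
  congr 1
  refine Fintype.sum_equiv (Equiv.mulLeft h⁻¹) _ _ ?_
  intro x
  simp only [Equiv.coe_mulLeft]
  congr 1
  group

/-- Frobenius reciprocity for the torus. -/
theorem classInner_I (hg : Ell (g : M₂)) (θ : Subgroup.centralizer ({g} : Set SL) →* ℂˣ) (χ : SL → ℂ)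
    (hχ : IsClassFunction SL χ) [Fintype (Subgroup.centralizer ({g} : Set SL))] :
    classInner (I θ) χ = ((Fintype.card F : ℂ) + 1)⁻¹ *
      ∑ c : Subgroup.centralizer ({g} : Set SL), (θ c : ℂ) * conj (χ c) := by
  unfold I
  rw [Cfsg.Agent.CharactersDeep.NormalInd.classInner_indFun _ _ χ hχ]
  unfold classInner
  rw [card_cent_ell g hg]
  push_cast
  rfl

end Cfsg.Agent.H984.SLTwo
end

-- part: H984/SLJac
section
/-!
# The Jacquet formula for `SL₂`, and the function `(R 1 - 2) R α`
-/

set_option autoImplicit false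
set_option linter.unusedSectionVars false

namespace Cfsg.Agent.H984.SLTwo

open Matrix Cfsg Cfsg.Agent.H984.EigCount
open scoped ComplexConjugate

variable {F : Type*} [Field F] [DecidableEq F] [Fintype F]

local notation "SL" => Matrix.SpecialLinearGroup (Fin 2) F
local notation "M₂" => Matrix (Fin 2) (Fin 2) F

/-- the central element `-1` -/
def z0 : SL := upp (-1) 0

theorem neg_one_inv : ((-1 : Fˣ))⁻¹ = -1 := by
  rw [inv_eq_iff_mul_eq_one]; simp

theorem not_NS_z0 : ¬ NS ((z0 : SL) : M₂) := not_NS_upp neg_one_inv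

theorem z0_mul_self : (z0 : SL) * z0 = 1 := by
  apply Matrix.SpecialLinearGroup.ext
  intro i j
  rw [Matrix.SpecialLinearGroup.coe_mul]
  unfold z0
  rw [coe_upp]
  fin_cases i <;> fin_cases j <;> simp [Matrix.mul_apply, Fin.sum_univ_two]

theorem z0_comm (x : SL) : z0 * x = x * z0 := by
  have := comm_of_not_NS not_NS_z0 x
  rw [← mul_inv_cancel_left x (z0 * x), ← mul_assoc x⁻¹, this]

theorem z0_mem (g : SL) : z0 ∈ Subgroup.centralizer ({g} : Set SL) := mem_cent_of_not_NS not_NS_z0

theorem z0_mem_center : (z0 : SL) ∈ Subgroup.center SL := by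
  rw [Subgroup.mem_center_iff]
  intro x
  exact (z0_comm x).symm

theorem z0_mul_upp (a : Fˣ) (x : F) : z0 * upp a x = upp (-a) (-x) := by
  apply Matrix.SpecialLinearGroup.ext
  intro i j
  rw [Matrix.SpecialLinearGroup.coe_mul]
  unfold z0
  rw [coe_upp, coe_upp, coe_upp]
  fin_cases i <;> fin_cases j <;> simp [Matrix.mul_apply, Fin.sum_univ_two]

theorem one_ne_neg_one (h2 : ringChar F ≠ 2) : (1 : Fˣ) ≠ -1 := by
  intro h
  have := congrArg (fun u : Fˣ => (u : F)) h
  simp at this
  exact Ring.neg_one_ne_one_of_char_ne_two h2 this.symm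

theorem z0_ne_one (h2 : ringChar F ≠ 2) : (z0 : SL) ≠ 1 := by
  intro h
  rw [← upp_one_zero] at h
  exact one_ne_neg_one h2 (upp_inj h).1.symm

theorem inv_eq_self_cases {a : Fˣ} (h : a⁻¹ = a) : a = 1 ∨ a = -1 := by
  have h1 : a * a = 1 := by nth_rewrite 1 [← h]; rw [inv_mul_cancel]
  have h2 : ((a : F)) ^ 2 = 1 := by
    have := congrArg (fun u : Fˣ => (u : F)) h1
    simpa [sq] using this
  rcases sq_eq_one_iff_side.mp h2 with h3 | h3
  · left; exact Units.ext h3
  · right; exact Units.ext (by simpa using h3)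

/-! ### values on the Borel subgroup -/

theorem R_upp_zero (α : MulChar F ℂ) {a : Fˣ} (ha : a⁻¹ = a) :
    R α (upp a 0) = ((Fintype.card F : ℂ) + 1) * α a := by
  have := ind_scalar (fun c => α c) (upp a 0) (by simp [coe_upp]) (by simp [coe_upp]) (by simp only [coe_upp, ha]; simp)
  rw [show R α (upp a 0) = _ from this]
  simp [coe_upp]

theorem R_upp_ne (α : MulChar F ℂ) {a : Fˣ} (ha : a⁻¹ = a) {x : F} (hx : x ≠ 0) :
    R α (upp a x) = α a := by
  have := ind_unip (fun c => α c) (upp a x) (by simpa [coe_upp] using hx) (by simp [coe_upp]) (by simp only [coe_upp, ha]; simp)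
  rw [show R α (upp a x) = _ from this]
  simp [coe_upp]

theorem R_upp_split (α : MulChar F ℂ) {a : Fˣ} (ha : a⁻¹ ≠ a) (x : F) :
    R α (upp a x) = α a + α ((a⁻¹ : Fˣ) : F) := by
  have := ind_split (fun c => α c) (upp a x) (by simp [coe_upp]) (by
    simp only [coe_upp]; simp
    intro h; apply ha; apply Units.ext; simpa using h.symm)
  rw [show R α (upp a x) = _ from this]
  simp [coe_upp]

theorem R_ell (α : MulChar F ℂ) {g : SL} (hg : Ell (g : M₂)) : R α g = 0 :=
  ind_ell (fun c => α c) g hg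

/-- The function `(R 1 - 2) R α`. -/
noncomputable def A (α : MulChar F ℂ) : SL → ℂ := fun x => (R (1 : MulChar F ℂ) x - 2) * R α x

theorem isClassFunction_A (α : MulChar F ℂ) : IsClassFunction SL (A α) := by
  intro g h
  unfold A
  rw [isClassFunction_R α g h, isClassFunction_R (1 : MulChar F ℂ) g h]

theorem A_ell (α : MulChar F ℂ) {g : SL} (hg : Ell (g : M₂)) : A α g = 0 := by
  unfold A; rw [R_ell α hg, mul_zero]

theorem A_upp_zero (α : MulChar F ℂ) {a : Fˣ} (ha : a⁻¹ = a) :
    A α (upp a 0) = ((Fintype.card F : ℂ) - 1) * ((Fintype.card F : ℂ) + 1) * α a := by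
  unfold A; rw [R_upp_zero α ha, R_upp_zero _ ha, MulChar.one_apply_coe]; ring

theorem A_upp_ne (α : MulChar F ℂ) {a : Fˣ} (ha : a⁻¹ = a) {x : F} (hx : x ≠ 0) :
    A α (upp a x) = - α a := by
  unfold A; rw [R_upp_ne α ha hx, R_upp_ne _ ha hx, MulChar.one_apply_coe]; ring

theorem A_upp_split (α : MulChar F ℂ) {a : Fˣ} (ha : a⁻¹ ≠ a) (x : F) : A α (upp a x) = 0 := by
  unfold A; rw [R_upp_split (1 : MulChar F ℂ) ha, MulChar.one_apply_coe, MulChar.one_apply_coe]; ring

theorem classInner_A (h2 : ringChar F ≠ 2) (α : MulChar F ℂ) {χ : SL → ℂ} (hχ : IsClassFunction SL χ) :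
    classInner (A α) χ = (((Fintype.card F : ℂ) - 1) * (Fintype.card F : ℂ))⁻¹ *
      (((Fintype.card F : ℂ) * conj (χ 1) - ∑ x : F, conj (χ (upp 1 x))) +
       α (-1) * ((Fintype.card F : ℂ) * conj (χ z0) - ∑ x : F, conj (χ (upp (-1) x)))) := by
  have h1 : classInner (A α) χ = classInner (R α) (fun x => conj (R (1 : MulChar F ℂ) x - 2) * χ x) := by
    unfold classInner
    congr 1
    refine Finset.sum_congr rfl fun x _ => ?_
    rw [map_mul, Complex.conj_conj]
    unfold A; ring
  rw [h1, classInner_R]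
  · congr 1
    have key : ∀ a : Fˣ, a⁻¹ = a → ∑ x : F, α a * conj (conj (R (1 : MulChar F ℂ) (upp a x) - 2) * χ (upp a x)) =
        α a * ((Fintype.card F : ℂ) * conj (χ (upp a 0)) - ∑ x : F, conj (χ (upp a x))) := by
      intro a ha
      rw [← Finset.mul_sum]
      congr 1
      rw [← Finset.add_sum_erase _ _ (Finset.mem_univ (0 : F)),
        ← Finset.add_sum_erase Finset.univ (fun x => conj (χ (upp a x))) (Finset.mem_univ (0 : F))]
      rw [R_upp_zero _ ha, MulChar.one_apply_coe, map_mul, Complex.conj_conj]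
      rw [Finset.sum_congr rfl (g := fun x => - conj (χ (upp a x))) (fun x hx => by
        rw [R_upp_ne _ ha (Finset.mem_erase.mp hx).1, MulChar.one_apply_coe, map_mul, Complex.conj_conj]; ring)]
      rw [Finset.sum_neg_distrib]
      ring
    rw [Fintype.sum_eq_add (1 : Fˣ) (-1) (one_ne_neg_one h2)]
    · rw [key 1 inv_one, key (-1) neg_one_inv, upp_one_zero]
      simp only [Units.val_one, map_one, one_mul, Units.val_neg]
      rfl
    · rintro a ⟨ha1, ha2⟩
      apply Finset.sum_eq_zero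
      intro x _
      have ha : a⁻¹ ≠ a := fun h => (inv_eq_self_cases h).elim ha1 ha2
      rw [R_upp_split _ ha, MulChar.one_apply_coe, MulChar.one_apply_coe]
      norm_num
  · intro g h
    simp only
    rw [isClassFunction_R (1 : MulChar F ℂ) g h, hχ g h]

/-! ### the Jacquet formula -/

/-- The average of a function over the cosets of the unipotent subgroup. -/
noncomputable def jac (χ : SL → ℂ) (a : Fˣ) : ℂ := (Fintype.card F : ℂ)⁻¹ * ∑ x : F, χ (upp a x)

theorem sum_upp (χ : SL → ℂ) (a : Fˣ) : ∑ x : F, χ (upp a x) = (Fintype.card F : ℂ) * jac χ a := by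
  unfold jac; rw [mul_inv_cancel_left₀ card_ne]

theorem conj_R_jac {χ : SL → ℂ} (hχ : IsClassFunction SL χ) (lam : Fˣ →* ℂˣ) :
    classInner (jac χ) (fun a => (lam a : ℂ)) = classInner χ (R (MulChar.ofUnitHom lam)) := by
  rw [← Cfsg.Agent.Characters.Core.classInner_conj_symm (R (MulChar.ofUnitHom lam)) χ, classInner_R _ _ hχ]
  unfold classInner jac
  rw [Nat.card_eq_fintype_card, Fintype.card_units, cast_card_sub_one, map_mul, map_inv₀, map_mul, map_sub,
    map_one, Complex.conj_natCast, mul_inv, mul_assoc, map_sum]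
  congr 1
  rw [Finset.mul_sum]
  refine Finset.sum_congr rfl fun a _ => ?_
  rw [map_sum, mul_assoc, Finset.sum_mul]
  congr 1
  refine Finset.sum_congr rfl fun x _ => ?_
  rw [map_mul, Complex.conj_conj, MulChar.ofUnitHom_coe, mul_comm]

theorem jac_eq {χ : SL → ℂ} (hχ : IsClassFunction SL χ) [Fintype (Fˣ →* ℂˣ)] (a : Fˣ) :
    jac χ a = ∑ lam : Fˣ →* ℂˣ, classInner χ (R (MulChar.ofUnitHom lam)) * (lam a : ℂ) := by
  have := Cfsg.Agent.H670.RankOne.eq_sum_hom (A := Fˣ) mul_comm (jac χ) a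
  rw [this]
  exact Finset.sum_congr rfl fun lam _ => by rw [conj_R_jac hχ]

/-- cuspidal functions have vanishing averages. -/
theorem jac_eq_zero {χ : SL → ℂ} (hχ : IsClassFunction SL χ) (h : ∀ α : MulChar F ℂ, classInner χ (R α) = 0)
    (a : Fˣ) : jac χ a = 0 := by
  classical
  have : Finite (Fˣ →* ℂˣ) := Cfsg.Agent.H670.RankOne.finite_hom mul_comm
  have : Fintype (Fˣ →* ℂˣ) := Fintype.ofFinite _
  rw [jac_eq hχ]
  exact Finset.sum_eq_zero fun lam _ => by rw [h, zero_mul]

theorem jac_eq_single {χ : SL → ℂ} (hχ : IsClassFunction SL χ) (α : MulChar F ℂ)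
    (h : ∀ β : MulChar F ℂ, β ≠ α → classInner χ (R β) = 0)
    (a : Fˣ) : jac χ a = classInner χ (R α) * α a := by
  classical
  have : Finite (Fˣ →* ℂˣ) := Cfsg.Agent.H670.RankOne.finite_hom mul_comm
  have : Fintype (Fˣ →* ℂˣ) := Fintype.ofFinite _
  rw [jac_eq hχ, Finset.sum_eq_single (MulChar.toUnitHom α)]
  · rw [MulChar.ofUnitHom_eq, MulChar.toUnitHom_eq, Equiv.symm_apply_apply, ← MulChar.toUnitHom_eq, MulChar.coe_toUnitHom]
  · intro lam _ hlam
    rw [h, zero_mul]
    intro he
    apply hlam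
    rw [← he, MulChar.ofUnitHom_eq, MulChar.toUnitHom_eq, Equiv.apply_symm_apply]
  · intro h; exact absurd (Finset.mem_univ _) h

/-- At a split element the value is the average. -/
theorem apply_split {χ : SL → ℂ} (hχ : IsClassFunction SL χ) {a : Fˣ} (ha : a⁻¹ ≠ a) (x : F) :
    χ (upp a x) = jac χ a := by
  have hne : (a : F) - ((a⁻¹ : Fˣ) : F) ≠ 0 := by
    intro h
    apply ha
    exact Units.ext (sub_eq_zero.mp h).symm
  have key : ∀ y : F, χ (upp a y) = χ (upp a x) := by
    intro y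
    apply Cfsg.Agent.Characters.Core.classFunction_apply_eq hχ
    rw [isConj_iff]
    refine ⟨upp 1 ((y - x) / ((a : F) - ((a⁻¹ : Fˣ) : F))), ?_⟩
    rw [mul_inv_eq_iff_eq_mul]
    apply Matrix.SpecialLinearGroup.ext
    intro i j
    rw [Matrix.SpecialLinearGroup.coe_mul, Matrix.SpecialLinearGroup.coe_mul, coe_upp, coe_upp, coe_upp]
    fin_cases i <;> fin_cases j <;>
    simp only [Matrix.mul_apply, Fin.sum_univ_two, Matrix.of_apply, Matrix.cons_val', Matrix.cons_val_zero,
      Matrix.cons_val_one, Matrix.cons_val_fin_one, Fin.zero_eta, Fin.mk_one, Fin.isValue, inv_one, Units.val_one]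
    · ring
    · field_simp
      ring
    · ring
    · ring
  unfold jac
  rw [Finset.sum_congr rfl (fun y _ => key y), Finset.sum_const, Finset.card_univ, nsmul_eq_mul,
    inv_mul_cancel_left₀ card_ne]

end Cfsg.Agent.H984.SLTwo
end

-- part: H984/SLX
section
/-!
# The discrete series characters of `SL₂` over a finite field of odd order
-/

set_option autoImplicit false
set_option linter.unusedSectionVars false

namespace Cfsg.Agent.H984.SLTwo

open Matrix Cfsg Cfsg.Agent.H984.EigCount
open scoped ComplexConjugate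

variable {F : Type*} [Field F] [DecidableEq F] [Fintype F]

local notation "SL" => Matrix.SpecialLinearGroup (Fin 2) F
local notation "M₂" => Matrix (Fin 2) (Fin 2) F

variable {g : Matrix.SpecialLinearGroup (Fin 2) F}

/-- The function `(R 1 - 2) R α - I θ`. -/
noncomputable def X (θ : Subgroup.centralizer ({g} : Set SL) →* ℂˣ) (α : MulChar F ℂ) : SL → ℂ :=
  fun x => A α x - I θ x

theorem isClassFunction_X (θ : Subgroup.centralizer ({g} : Set SL) →* ℂˣ) (α : MulChar F ℂ) :
    IsClassFunction SL (X θ α) := by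
  intro x y
  unfold X
  rw [isClassFunction_A α x y, isClassFunction_I θ x y]

theorem isCharacter_R (α : MulChar F ℂ) : IsCharacter SL (R α) := by
  unfold R
  apply Cfsg.Agent.CharactersDeep.IndFun.isCharacter_indFun
  let f : Bor F →* ℂˣ :=
    { toFun := fun b => MulChar.toUnitHom α (Units.mk0 _ (ne_zero_of_mem_Bor b.2))
      map_one' := by
        rw [← map_one (MulChar.toUnitHom α)]
        congr 1
        apply Units.ext
        simp
      map_mul' := by
        intro b c
        rw [← map_mul]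
        congr 1
        apply Units.ext
        simp only [Units.val_mul, Units.val_mk0, Subgroup.coe_mul, Matrix.SpecialLinearGroup.coe_mul,
          Matrix.mul_apply, Fin.sum_univ_two]
        rw [mem_Bor.mp c.2, mul_zero, add_zero] }
  have := Cfsg.Agent.Characters.Linear.isCharacter_hom f
  convert this using 2 with b
  exact (MulChar.coe_toUnitHom α (Units.mk0 _ (ne_zero_of_mem_Bor b.2))).symm

theorem isCharacter_I (θ : Subgroup.centralizer ({g} : Set SL) →* ℂˣ) : IsCharacter SL (I θ) :=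
  Cfsg.Agent.CharactersDeep.IndFun.isCharacter_indFun _ (Cfsg.Agent.Characters.Linear.isCharacter_hom θ)

theorem isGeneralizedCharacter_X (θ : Subgroup.centralizer ({g} : Set SL) →* ℂˣ) (α : MulChar F ℂ) :
    IsGeneralizedCharacter SL (X θ α) := by
  refine ⟨R 1 * R α, R α + R α + I θ, Cfsg.Agent.Characters.Core.isCharacter_mul (isCharacter_R 1) (isCharacter_R α),
    Cfsg.Agent.Characters.Core.isCharacter_add (Cfsg.Agent.Characters.Core.isCharacter_add (isCharacter_R α)
      (isCharacter_R α)) (isCharacter_I θ), ?_⟩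
  funext x
  simp only [X, A, Pi.sub_apply, Pi.mul_apply, Pi.add_apply]
  ring

theorem not_ell_upp (a : Fˣ) (x : F) : ¬ Ell (upp a x : M₂) := fun h => h.e10 (by simp [coe_upp])

theorem X_upp_zero (hg : Ell (g : M₂)) {θ : Subgroup.centralizer ({g} : Set SL) →* ℂˣ} {α : MulChar F ℂ}
    {a : Fˣ} (ha : a⁻¹ = a) (hpar : α a = (θ ⟨upp a 0, mem_cent_of_not_NS (not_NS_upp ha)⟩ : ℂ)) :
    X θ α (upp a 0) = ((Fintype.card F : ℂ) - 1) * α a := by
  unfold X
  rw [A_upp_zero α ha, I_scalar hg θ (not_NS_upp ha), ← hpar]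
  ring

theorem X_upp_ne (hg : Ell (g : M₂)) (θ : Subgroup.centralizer ({g} : Set SL) →* ℂˣ) (α : MulChar F ℂ)
    {a : Fˣ} (ha : a⁻¹ = a) {x : F} (hx : x ≠ 0) : X θ α (upp a x) = - α a := by
  unfold X
  rw [A_upp_ne α ha hx, I_not_ell hg θ (not_ell_upp a x) (NS_upp a hx), sub_zero]

theorem NS_upp_split {a : Fˣ} (ha : a⁻¹ ≠ a) (x : F) : NS (upp a x : M₂) := by
  right; right
  rw [coe_upp]
  simp only [Matrix.of_apply, Matrix.cons_val', Matrix.cons_val_zero,
      Matrix.cons_val_one, Matrix.cons_val_fin_one]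
  intro h
  exact ha (Units.ext h.symm)

theorem X_upp_split (hg : Ell (g : M₂)) (θ : Subgroup.centralizer ({g} : Set SL) →* ℂˣ) (α : MulChar F ℂ)
    {a : Fˣ} (ha : a⁻¹ ≠ a) (x : F) : X θ α (upp a x) = 0 := by
  unfold X
  rw [A_upp_split α ha x, I_not_ell hg θ (not_ell_upp a x) (NS_upp_split ha x), sub_zero]

theorem X_ell (hg : Ell (g : M₂)) (θ : Subgroup.centralizer ({g} : Set SL) →* ℂˣ) (α : MulChar F ℂ) {c : SL}
    (hc : c ∈ Subgroup.centralizer ({g} : Set SL)) (hNS : NS (c : M₂)) :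
    X θ α c = -((θ ⟨c, hc⟩ : ℂ) + (((θ ⟨c, hc⟩)⁻¹ : ℂˣ) : ℂ)) := by
  unfold X
  rw [A_ell α (ell_of_mem_cent hg hc hNS), I_ell hg θ hc hNS, zero_sub]

theorem X_one (hg : Ell (g : M₂)) (θ : Subgroup.centralizer ({g} : Set SL) →* ℂˣ) (α : MulChar F ℂ) :
    X θ α 1 = (Fintype.card F : ℂ) - 1 := by
  have h := X_upp_zero hg (θ := θ) (α := α) (a := 1) inv_one (by
    rw [show (⟨upp 1 0, mem_cent_of_not_NS (not_NS_upp inv_one)⟩ : Subgroup.centralizer ({g} : Set SL)) = 1 from
      Subtype.ext upp_one_zero]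
    simp)
  rw [upp_one_zero] at h
  rw [h]; simp

theorem X_z0 (hg : Ell (g : M₂)) {θ : Subgroup.centralizer ({g} : Set SL) →* ℂˣ} {α : MulChar F ℂ}
    (hpar : α (-1) = (θ ⟨z0, z0_mem g⟩ : ℂ)) : X θ α z0 = ((Fintype.card F : ℂ) - 1) * α (-1) := by
  have h := X_upp_zero hg (θ := θ) (α := α) (a := -1) neg_one_inv (by
    rw [Units.val_neg, Units.val_one]; exact hpar)
  rwa [Units.val_neg, Units.val_one] at h

theorem jac_X (hg : Ell (g : M₂)) {θ : Subgroup.centralizer ({g} : Set SL) →* ℂˣ} {α : MulChar F ℂ}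
    (hpar : α (-1) = (θ ⟨z0, z0_mem g⟩ : ℂ)) (a : Fˣ) : jac (X θ α) a = 0 := by
  by_cases ha : a⁻¹ = a
  · unfold jac
    rw [← Finset.add_sum_erase _ _ (Finset.mem_univ (0 : F)),
      Finset.sum_congr rfl (g := fun x => - α a) (fun x hx => X_upp_ne hg θ α ha (Finset.mem_erase.mp hx).1),
      Finset.sum_const, Finset.card_erase_of_mem (Finset.mem_univ _), Finset.card_univ, nsmul_eq_mul,
      cast_card_sub_one]
    have : X θ α (upp a 0) = ((Fintype.card F : ℂ) - 1) * α a := by
      rcases inv_eq_self_cases ha with rfl | rfl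
      · rw [upp_one_zero, X_one hg]; simp
      · exact X_upp_zero hg ha (by rw [Units.val_neg, Units.val_one]; exact hpar)
    rw [this]; ring
  · rw [← apply_split (isClassFunction_X θ α) ha 0, X_upp_split hg θ α ha]

theorem classInner_A' (h2 : ringChar F ≠ 2) (α : MulChar F ℂ) {χ : SL → ℂ} (hχ : IsClassFunction SL χ) :
    classInner (A α) χ = ((Fintype.card F : ℂ) - 1)⁻¹ *
      ((conj (χ 1) - conj (jac χ 1)) + α (-1) * (conj (χ z0) - conj (jac χ (-1)))) := by
  rw [classInner_A h2 α hχ]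
  rw [← map_sum, ← map_sum, sum_upp, sum_upp, map_mul, map_mul, Complex.conj_natCast]
  have := card_ne (F := F)
  have := card_sub_one_ne (F := F)
  field_simp

theorem classInner_X (θ : Subgroup.centralizer ({g} : Set SL) →* ℂˣ) (α : MulChar F ℂ) (χ : SL → ℂ) :
    classInner (X θ α) χ = classInner (A α) χ - classInner (I θ) χ :=
  Cfsg.Agent.Characters.Core.classInner_sub_left (A α) (I θ) χ

theorem sq_mulChar_neg_one (α : MulChar F ℂ) : α (-1) ^ 2 = 1 := by
  rw [← map_pow]; simp

theorem mulChar_neg_one_cases (α : MulChar F ℂ) : α (-1) = 1 ∨ α (-1) = -1 :=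
  sq_eq_one_iff_of_side (sq_mulChar_neg_one α)
where
  sq_eq_one_iff_of_side {z : ℂ} (h : z ^ 2 = 1) : z = 1 ∨ z = -1 := sq_eq_one_iff_of_ne_zero h
  sq_eq_one_iff_of_ne_zero {z : ℂ} (h : z ^ 2 = 1) : z = 1 ∨ z = -1 := by
    have : (z - 1) * (z + 1) = 0 := by linear_combination h
    rcases mul_eq_zero.mp this with h | h
    · left; linear_combination h
    · right; linear_combination h

theorem conj_mulChar_neg_one (α : MulChar F ℂ) : conj (α (-1)) = α (-1) := by
  rcases mulChar_neg_one_cases α with h | h <;> rw [h] <;> simp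

theorem classInner_A_X (h2 : ringChar F ≠ 2) (hg : Ell (g : M₂)) {θ : Subgroup.centralizer ({g} : Set SL) →* ℂˣ}
    {α : MulChar F ℂ} (hpar : α (-1) = (θ ⟨z0, z0_mem g⟩ : ℂ)) : classInner (A α) (X θ α) = 2 := by
  rw [classInner_A' h2 α (isClassFunction_X θ α), jac_X hg hpar, jac_X hg hpar, X_one hg, X_z0 hg hpar,
    map_mul, map_sub, map_one, Complex.conj_natCast, conj_mulChar_neg_one, map_zero]
  have h1 := sq_mulChar_neg_one α
  have := card_sub_one_ne (F := F)
  field_simp
  linear_combination ((Fintype.card F : ℂ) - 1) * h1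

theorem conj_hom {C : Type*} [Group C] [Finite C] (θ : C →* ℂˣ) (c : C) : conj (θ c : ℂ) = (((θ c)⁻¹ : ℂˣ) : ℂ) := by
  have h := Cfsg.Agent.Characters.Linear.norm_hom_apply θ c
  rw [Units.val_inv_eq_inv_val, ← Complex.inv_eq_conj h]

theorem sum_hom_eq_zero {C : Type*} [Group C] [Fintype C] {θ : C →* ℂˣ} (h : θ ≠ 1) : ∑ c : C, (θ c : ℂ) = 0 := by
  classical
  have h1 := sum_hom_units_side θ
  rw [h1, if_neg h]
where
  sum_hom_units_side {C : Type _} [Group C] [Fintype C] (θ : C →* ℂˣ) [Decidable (θ = 1)] :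
      ∑ c : C, (θ c : ℂ) = if θ = 1 then (Fintype.card C : ℂ) else 0 := by
    classical
    have := sum_hom_units ((Units.coeHom ℂ).comp θ)
    have h2 : (Units.coeHom ℂ).comp θ = 1 ↔ θ = 1 := by
      constructor
      · intro h
        ext c
        have := congrArg (fun f : C →* ℂ => f c) h
        simpa using this
      · rintro rfl; rfl
    simp only [h2] at this
    simpa using this

/-- Sums over the torus of functions supported on the centre. -/
theorem sum_two (h2 : ringChar F ≠ 2) [Fintype (Subgroup.centralizer ({g} : Set SL))]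
    (f : Subgroup.centralizer ({g} : Set SL) → ℂ) (hf : ∀ c : Subgroup.centralizer ({g} : Set SL), NS ((c : SL) : M₂) → f c = 0) :
    ∑ c, f c = f 1 + f ⟨z0, z0_mem g⟩ := by
  classical
  apply Fintype.sum_eq_add
  · intro h
    exact z0_ne_one h2 (congrArg Subtype.val h).symm
  · rintro c ⟨h1, h3⟩
    apply hf
    by_contra hn
    rcases scalar_cases hn with h | h
    · rw [upp_one_zero] at h
      exact h1 (Subtype.ext h)
    · exact h3 (Subtype.ext h)

theorem classInner_I_X (h2 : ringChar F ≠ 2) (hg : Ell (g : M₂)) {θ : Subgroup.centralizer ({g} : Set SL) →* ℂˣ}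
    {α : MulChar F ℂ} (hpar : α (-1) = (θ ⟨z0, z0_mem g⟩ : ℂ)) {χ : SL → ℂ} (hχ : IsClassFunction SL χ)
    (hχX : ∀ c ∈ Subgroup.centralizer ({g} : Set SL), χ c = X θ α c) [Decidable (θ ^ 2 = 1)] :
    classInner (I θ) χ = if θ ^ 2 = 1 then 0 else 1 := by
  classical
  have : Fintype (Subgroup.centralizer ({g} : Set SL)) := Fintype.ofFinite _
  have hq1 := card_add_one_ne (F := F)
  rw [classInner_I hg θ χ hχ, inv_mul_eq_iff_eq_mul₀ hq1]
  have key : ∀ c : Subgroup.centralizer ({g} : Set SL), (θ c : ℂ) * conj (χ c) =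
      -1 - (((θ ^ 2) c : ℂˣ) : ℂ) + (if NS ((c : SL) : M₂) then 0 else (Fintype.card F : ℂ) + 1) := by
    rintro ⟨c, hc⟩
    rw [hχX c hc]
    have hu : (θ ⟨c, hc⟩ : ℂ) * (((θ ⟨c, hc⟩)⁻¹ : ℂˣ) : ℂ) = 1 := by
      rw [← Units.val_mul, mul_inv_cancel, Units.val_one]
    by_cases hNS : NS (c : M₂)
    · rw [if_pos hNS, X_ell hg θ α hc hNS, map_neg, map_add, conj_hom, ← MonoidHom.inv_apply θ, conj_hom,
        MonoidHom.inv_apply, inv_inv, MonoidHom.pow_apply, Units.val_pow_eq_pow_val]
      linear_combination -hu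
    · rw [if_neg hNS]
      rcases scalar_cases hNS with h | h
      · rw [upp_one_zero] at h
        subst h
        rw [X_one hg, show (⟨1, hc⟩ : Subgroup.centralizer ({g} : Set SL)) = 1 from rfl, map_one, map_one]
        simp only [Units.val_one, map_sub, map_one, Complex.conj_natCast]
        ring
      · change c = z0 at h
        subst h
        rw [X_z0 hg hpar, MonoidHom.pow_apply, Units.val_pow_eq_pow_val, ← hpar, map_mul, map_sub, map_one,
          Complex.conj_natCast, conj_mulChar_neg_one]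
        have h1 := sq_mulChar_neg_one α
        linear_combination (Fintype.card F : ℂ) * h1
  simp_rw [key]
  rw [Finset.sum_add_distrib, Finset.sum_sub_distrib, sum_two h2 (fun c => if NS ((c : SL) : M₂) then 0 else (Fintype.card F : ℂ) + 1)
    (fun c hc => if_pos hc)]
  have hcC : (Fintype.card (Subgroup.centralizer ({g} : Set SL)) : ℂ) = (Fintype.card F : ℂ) + 1 := by
    rw [← Nat.card_eq_fintype_card (α := Subgroup.centralizer ({g} : Set SL)), card_cent_ell g hg]
    push_cast; ring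
  rw [if_neg (by unfold NS; simp), if_neg not_NS_z0, Finset.sum_const, Finset.card_univ, nsmul_eq_mul, hcC]
  split_ifs with h
  · rw [h]
    simp only [MonoidHom.one_apply, Units.val_one, Finset.sum_const, Finset.card_univ, nsmul_eq_mul]
    rw [hcC]
    ring
  · rw [sum_hom_eq_zero h]
    ring

theorem classInner_X_X (h2 : ringChar F ≠ 2) (hg : Ell (g : M₂)) {θ : Subgroup.centralizer ({g} : Set SL) →* ℂˣ}
    {α : MulChar F ℂ} (hpar : α (-1) = (θ ⟨z0, z0_mem g⟩ : ℂ)) (h : θ ^ 2 ≠ 1) :
    classInner (X θ α) (X θ α) = 1 := by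
  classical
  rw [classInner_X, classInner_A_X h2 hg hpar, classInner_I_X h2 hg hpar (isClassFunction_X θ α) (fun _ _ => rfl),
    if_neg h]
  norm_num

/-- The discrete series characters are irreducible. -/
theorem isIrr_X (h2 : ringChar F ≠ 2) (hg : Ell (g : M₂)) {θ : Subgroup.centralizer ({g} : Set SL) →* ℂˣ}
    {α : MulChar F ℂ} (hpar : α (-1) = (θ ⟨z0, z0_mem g⟩ : ℂ)) (h : θ ^ 2 ≠ 1) :
    IsIrrCharacter SL (X θ α) := by
  rcases Cfsg.Agent.Characters.Core.isIrr_of_generalized (isGeneralizedCharacter_X θ α) (classInner_X_X h2 hg hpar h)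
    with h1 | h1
  · exact h1
  · exfalso
    obtain ⟨n, hn, hn'⟩ := Cfsg.Agent.Characters.Core.isIrr_apply_one h1
    rw [Pi.neg_apply, X_one hg] at hn'
    have h3 : ((Fintype.card F : ℝ)) - 1 + n = 0 := by
      have : ((Fintype.card F : ℂ)) - 1 + n = 0 := by rw [← hn']; ring
      exact_mod_cast this
    have h4 : (2 : ℝ) ≤ Fintype.card F := by exact_mod_cast two_le_card (F := F)
    have h5 : (0 : ℝ) < n := by exact_mod_cast hn
    linarith

end Cfsg.Agent.H984.SLTwo
end
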